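import Cfsg.Agent.DPrim23.Grid

/-!
The stabiliser of a point when it is imprimitive: two point stabilisers have order prime to `p`,
and the Sylow `p`-subgroup is regular on the remaining points.
-/

set_option autoImplicit false

namespace DPrim23

open MulAction
open scoped Pointwise

variable {G Ω : Type*} [Group G] [MulAction G Ω]

theorem card_orbit_mul [Finite G] (N : Subgroup G) (x : Ω) :
    (orbit N x).ncard * Nat.card ↥(N ⊓ stabilizer G x) = Nat.card N := by
  rw [Subgroup.card_eq_card_quotient_mul_card_subgroup (stabilizer N x),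
    ← Nat.card_congr (orbitEquivQuotientStabilizer N x), ← Nat.card_coe_set_eq]
  congr 1
  exact Nat.card_congr
    { toFun := fun g => ⟨⟨g.1, g.2.1⟩, g.2.2⟩
      invFun := fun g => ⟨(g.1 : G), g.1.2, g.2⟩
      left_inv := fun g => rfl
      right_inv := fun g => rfl }

theorem smul_orbit (K : Subgroup G) (g : G) (h1 : ∀ k ∈ K, g * k * g⁻¹ ∈ K)
    (h2 : ∀ k ∈ K, g⁻¹ * k * g ∈ K) (y : Ω) : orbit K (g • y) = g • orbit K y := by
  ext z
  rw [Set.mem_smul_set_iff_inv_smul_mem]
  constructor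
  · rintro ⟨⟨k, hk⟩, rfl⟩
    exact ⟨⟨_, h2 k hk⟩, by simp [Subgroup.smul_def, mul_smul]⟩
  · rintro ⟨⟨k, hk⟩, e⟩
    exact ⟨⟨_, h1 k hk⟩, by
      simp only [Subgroup.smul_def, mul_smul, inv_smul_smul] at e ⊢
      rw [e, smul_inv_smul]⟩

/-- The configuration of an imprimitive point stabiliser. -/
structure Setup (G : Type*) {Ω : Type*} [Group G] [MulAction G Ω] (p : ℕ) (a b : Ω) (B : Set Ω)
    (P : Subgroup G) : Prop where
  prime : p.Prime
  blk : IsBlk G p a b B
  le : P ≤ stabilizer G a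
  cardP : Nat.card P = p ^ 2
  comm : ∀ u ∈ P, ∀ v ∈ P, u * v = v * u
  trans : ∀ x, x ≠ a → ∃ u ∈ P, u • b = x
  free : ∀ u ∈ P, ∀ x, x ≠ a → u • x = x → u = 1
  cop : ∀ c x : Ω, c ≠ x → ¬ p ∣ Nat.card ↥(stabilizer G c ⊓ stabilizer G x)

section Build

variable [Finite G] [Fintype Ω] [FaithfulSMul G Ω] [IsMultiplyPretransitive G Ω 2] {p : ℕ}

omit [FaithfulSMul G Ω] in
theorem card_stab (hcard : Fintype.card Ω = p ^ 2 + 1) {c x : Ω} (h : c ≠ x) :
    Nat.card (stabilizer G c) = p ^ 2 * Nat.card ↥(stabilizer G c ⊓ stabilizer G x) := by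
  have e := card_orbit_mul (stabilizer G c) x
  have ho : orbit (stabilizer G c) x = {c}ᶜ := by
    ext y
    constructor
    · rintro ⟨⟨g, hg⟩, rfl⟩ (hy : g • x = c)
      exact h ((smul_left_cancel g (hy.trans (mem_stabilizer_iff.mp hg).symm)).symm)
    · intro hy
      obtain ⟨g, h1, h2⟩ := exists_pair G h (Ne.symm hy)
      exact ⟨⟨g, h1⟩, h2⟩
  rw [ho, Set.ncard_compl, Set.ncard_singleton, Nat.card_eq_fintype_card, hcard,
    Nat.add_sub_cancel] at e
  exact e.symm

omit [FaithfulSMul G Ω] in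
theorem sylow_transitive [hp : Fact p.Prime] (hcard : Fintype.card Ω = p ^ 2 + 1) {c x : Ω}
    (h : c ≠ x) (P0 : Sylow p (stabilizer G c)) :
    orbit ((P0 : Subgroup (stabilizer G c)).map (stabilizer G c).subtype) x = {c}ᶜ := by
  set P := (P0 : Subgroup (stabilizer G c)).map (stabilizer G c).subtype
  have hPle : P ≤ stabilizer G c := Subgroup.map_subtype_le _
  have e := card_orbit_mul P x
  have hP : Nat.card P = Nat.card (P0 : Subgroup (stabilizer G c)) := Subgroup.card_subtype _ _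
  have hi := Subgroup.index_mul_card (P0 : Subgroup (stabilizer G c))
  obtain ⟨k, hk⟩ : Nat.card ↥(P ⊓ stabilizer G x) ∣
      Nat.card ↥(stabilizer G c ⊓ stabilizer G x) :=
    Subgroup.card_dvd_of_le (inf_le_inf hPle le_rfl)
  rw [card_stab hcard h, hk, ← hP, ← e] at hi
  have hpos : 0 < Nat.card ↥(P ⊓ stabilizer G x) := Nat.card_pos
  have h2 : (P0 : Subgroup (stabilizer G c)).index * (orbit P x).ncard = p ^ 2 * k := by
    apply Nat.eq_of_mul_eq_mul_right hpos
    linarith
  have h3 : p ^ 2 ∣ (orbit P x).ncard :=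
    (Nat.Coprime.pow_left 2 (hp.out.coprime_iff_not_dvd.mpr P0.not_dvd_index)).dvd_of_dvd_mul_left
      ⟨k, h2⟩
  have hsub : orbit P x ⊆ {c}ᶜ := by
    rintro y ⟨⟨g, hg⟩, rfl⟩ (hy : g • x = c)
    exact h ((smul_left_cancel g (hy.trans (mem_stabilizer_iff.mp (hPle hg)).symm)).symm)
  refine Set.eq_of_subset_of_ncard_le hsub ?_ (Set.toFinite _)
  rw [Set.ncard_compl, Set.ncard_singleton, Nat.card_eq_fintype_card, hcard, Nat.add_sub_cancel]
  exact Nat.le_of_dvd ((Set.ncard_pos (Set.toFinite _)).mpr ⟨x, mem_orbit_self x⟩) h3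

variable {a b : Ω} {B : Set Ω}

/-- The fixed points of a Sylow subgroup of a two point stabiliser form a line. -/
theorem fixed_sylow_eq [hp : Fact p.Prime] (hB : IsBlk G p a b B)
    (hcard : Fintype.card Ω = p ^ 2 + 1) {c x : Ω} (h : c ≠ x) (Q : Subgroup G) (hQ1 : Q ≠ ⊥)
    (hQp : IsPGroup p Q) (hQT : Q ≤ stabilizer G c ⊓ stabilizer G x)
    (hmax : ∀ R : Subgroup G, IsPGroup p R → R ≤ stabilizer G c ⊓ stabilizer G x → Q ≤ R → R = Q) :
    {y | ∀ q ∈ Q, q • y = y} = line G a B c x := by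
  have hp2 := hp.out.two_le
  have hqc : ∀ q ∈ Q, q • c = c := fun q hq => (hQT hq).1
  have hqx : ∀ q ∈ Q, q • x = x := fun q hq => (hQT hq).2
  -- the other points of the class are fixed
  have hcls : ∀ y ∈ cls G a B c x, ∀ q ∈ Q, q • y = y := by
    intro y hy q hq
    by_cases hyx : y = x
    · rw [hyx]; exact hqx q hq
    obtain ⟨n, hn⟩ := hQp.card_orbit y
    have hsub : orbit Q y ⊆ cls G a B c x \ {x} := by
      rintro z ⟨⟨g, hg⟩, rfl⟩
      refine ⟨?_, ?_⟩
      · have := Set.smul_mem_smul_set (a := g) hy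
        rwa [← cls_equiv, hqc g hg, hqx g hg] at this
      · intro (e : g • y = x)
        exact hyx (smul_left_cancel g (e.trans (hqx g hg).symm))
    have hle := Set.ncard_le_ncard hsub (Set.toFinite _)
    rw [Set.ncard_sdiff_singleton_of_mem (hB.mem_self h), hB.ncard_cls h, ← Nat.card_coe_set_eq,
      hn] at hle
    have hn0 : n = 0 := by
      by_contra h0
      have := Nat.le_self_pow h0 p
      omega
    rw [hn0, pow_zero, Nat.card_eq_one_iff_unique] at hn
    exact congrArg Subtype.val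
      (@Subsingleton.elim _ hn.1 ⟨q • y, ⟨q, hq⟩, rfl⟩ ⟨y, mem_orbit_self y⟩)
  obtain ⟨P0, hP0⟩ := (hQp.comap_subtype (K := stabilizer G c)).exists_le_sylow
  set P := (P0 : Subgroup (stabilizer G c)).map (stabilizer G c).subtype
  have hPp : IsPGroup p P := P0.2.map _
  have hPle : P ≤ stabilizer G c := Subgroup.map_subtype_le _
  have hQP : Q ≤ P := fun q hq => ⟨⟨q, (hQT hq).1⟩, hP0 hq, rfl⟩
  have hPx : P ⊓ stabilizer G x = Q :=
    hmax _ (hPp.to_le inf_le_left) (inf_le_inf hPle le_rfl)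
      (le_inf hQP fun q hq => (hQT hq).2)
  apply subset_antisymm
  · intro y hy
    by_contra hyl
    have hyc : y ≠ c := fun e => hyl (Or.inl e)
    set F : Set Ω := {z | z ≠ c ∧ ∀ q ∈ Q, q • z = z}
    set N := P ⊓ Subgroup.normalizer (Q : Set G)
    have hNF : orbit N x = F := by
      ext z
      constructor
      · rintro ⟨⟨g, hgP, hgN⟩, rfl⟩
        refine ⟨fun e : g • x = c =>
          h (smul_left_cancel g (e.trans (hPle hgP).symm)).symm, fun q hq => ?_⟩
        have := (Subgroup.mem_normalizer_iff''.mp hgN q).mp hq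
        show q • g • x = g • x
        calc q • g • x = g • ((g⁻¹ * q * g) • x) := by simp [mul_smul]
          _ = g • x := by rw [hqx _ this]
      · rintro ⟨hzc, hz⟩
        obtain ⟨⟨u, huP⟩, rfl⟩ : z ∈ orbit P x := by
          rw [sylow_transitive hcard h P0]; exact hzc
        refine ⟨⟨u, huP, ?_⟩, rfl⟩
        have hu' : u⁻¹ ∈ Subgroup.normalizer (Q : Set G) := by
          apply Subgroup.mem_normalizer_fintype
          intro q hq
          show u⁻¹ * q * u⁻¹⁻¹ ∈ Q
          rw [inv_inv, ← hPx]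
          refine Subgroup.mem_inf.mpr ⟨mul_mem (mul_mem (inv_mem huP) (hQP hq)) huP, ?_⟩
          show (u⁻¹ * q * u) • x = x
          rw [mul_smul, mul_smul, inv_smul_eq_iff]
          exact hz q hq
        simpa using inv_mem hu'
    obtain ⟨n, hn⟩ := (hPp.to_le (inf_le_left : N ≤ P)).card_orbit x
    have hsub : insert y (cls G a B c x) ⊆ F := by
      rintro z (rfl | hz)
      · exact ⟨hyc, hy⟩
      · exact ⟨hB.ne hz, hcls z hz⟩
    have hlt : p + 1 ≤ p ^ n := by
      rw [← hn, Nat.card_coe_set_eq, hNF]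
      refine le_trans ?_ (Set.ncard_le_ncard hsub (Set.toFinite _))
      rw [Set.ncard_insert_of_notMem (fun hm => hyl (Or.inr hm)), hB.ncard_cls h]
    have hn2 : 2 ≤ n := by
      by_contra h0
      have : p ^ n ≤ p ^ 1 := Nat.pow_le_pow_right (by omega) (by omega)
      rw [pow_one] at this
      omega
    have hFall : F = {c}ᶜ := by
      refine Set.eq_of_subset_of_ncard_le (fun z hz => hz.1) ?_ (Set.toFinite _)
      rw [Set.ncard_compl, Set.ncard_singleton, Nat.card_eq_fintype_card, hcard,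
        Nat.add_sub_cancel, ← hNF, ← Nat.card_coe_set_eq, hn]
      exact Nat.pow_le_pow_right (by omega) hn2
    apply hQ1
    rw [Subgroup.eq_bot_iff_forall]
    intro q hq
    apply FaithfulSMul.eq_of_smul_eq_smul (α := Ω)
    intro z
    rw [one_smul]
    by_cases hz : z = c
    · rw [hz]; exact hqc q hq
    · exact (hFall.symm ▸ hz : z ∈ F).2 q hq
  · rintro y (rfl | hy) q hq
    · exact hqc q hq
    · exact hcls y hy q hq

/-- Two point stabilisers have order prime to `p`. -/
theorem not_dvd_two [hp : Fact p.Prime] (hB : IsBlk G p a b B)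
    (hcard : Fintype.card Ω = p ^ 2 + 1) {c x : Ω} (h : c ≠ x) :
    ¬ p ∣ Nat.card ↥(stabilizer G c ⊓ stabilizer G x) := by
  intro hd
  set T := stabilizer G c ⊓ stabilizer G x with hT
  let Q0 : Sylow p T := default
  set Q := (Q0 : Subgroup T).map T.subtype
  have hQ1 : Q ≠ ⊥ := by
    intro e
    have h1 := Q0.dvd_card_of_dvd_card hd
    rw [← Subgroup.card_subtype T (Q0 : Subgroup T), show (Q0 : Subgroup T).map T.subtype = ⊥ from e,
      Subgroup.card_bot] at h1
    exact hp.out.not_dvd_one h1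
  have hQp : IsPGroup p Q := Q0.2.map _
  have hmax : ∀ R : Subgroup G, IsPGroup p R → R ≤ T → Q ≤ R → R = Q := by
    intro R hR hRT hQR
    have := Q0.is_maximal' (hR.comap_subtype (K := T)) (fun q hq => hQR ⟨q, hq, rfl⟩)
    show R = (Q0 : Subgroup T).map T.subtype
    rw [← this]
    exact (Subgroup.map_subgroupOf_eq_of_le hRT).symm
  have e1 := fixed_sylow_eq hB hcard h Q hQ1 hQp (Subgroup.map_subtype_le _) hmax
  have e2 := fixed_sylow_eq hB hcard h.symm Q hQ1 hQp
    ((Subgroup.map_subtype_le _).trans (le_of_eq (inf_comm _ _)))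
    (fun R hR hRT hQR => hmax R hR (hRT.trans (le_of_eq (inf_comm _ _))) hQR)
  exact hB.not_symm hp.out hcard h (e1.symm.trans e2)

theorem exists_setup (hp : p.Prime) (hB : IsBlk G p a b B)
    (hcard : Fintype.card Ω = p ^ 2 + 1) : ∃ P : Subgroup G, Setup G p a b B P := by
  have := Fact.mk hp
  have hab := hB.ab_ne
  let P0 : Sylow p (stabilizer G a) := default
  set P := (P0 : Subgroup (stabilizer G a)).map (stabilizer G a).subtype with hPdef
  have hPle : P ≤ stabilizer G a := Subgroup.map_subtype_le _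
  have hcop : ∀ c x : Ω, c ≠ x → ¬ p ∣ Nat.card ↥(stabilizer G c ⊓ stabilizer G x) :=
    fun c x h => not_dvd_two hB hcard h
  have htr : ∀ x, x ≠ a → orbit P x = {a}ᶜ := fun x hx => sylow_transitive hcard hx.symm P0
  have hfree : ∀ u ∈ P, ∀ x, x ≠ a → u • x = x → u = 1 := by
    intro u hu x hx he
    have hk : IsPGroup p ↥(P ⊓ stabilizer G x) := (P0.2.map _).to_le inf_le_left
    obtain ⟨n, hn⟩ := IsPGroup.iff_card.mp hk
    have h1 : Nat.card ↥(P ⊓ stabilizer G x) = 1 := by
      rcases Nat.eq_zero_or_pos n with h0 | h0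
      · rw [hn, h0, pow_zero]
      · exfalso
        apply hcop a x hx.symm
        exact ((dvd_pow_self p h0.ne').trans hn.symm.dvd).trans
          (Subgroup.card_dvd_of_le (inf_le_inf hPle le_rfl))
    exact Subgroup.eq_bot_iff_forall _ |>.mp (Subgroup.card_eq_one.mp h1) u ⟨hu, he⟩
  have hcardP : Nat.card P = p ^ 2 := by
    have e := card_orbit_mul P b
    have : P ⊓ stabilizer G b = ⊥ := by
      rw [Subgroup.eq_bot_iff_forall]
      exact fun u hu => hfree u hu.1 b hab.symm hu.2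
    rw [this, Subgroup.card_bot, mul_one, htr b hab.symm, Set.ncard_compl, Set.ncard_singleton,
      Nat.card_eq_fintype_card, hcard, Nat.add_sub_cancel] at e
    exact e.symm
  refine ⟨P, hp, hB, hPle, hcardP, ?_, ?_, hfree, hcop⟩
  · intro u hu v hv
    exact congrArg Subtype.val
      ((IsPGroup.isMulCommutative_of_card_eq_prime_sq hcardP).is_comm.comm ⟨u, hu⟩ ⟨v, hv⟩)
  · intro x hx
    obtain ⟨⟨u, hu⟩, e⟩ : x ∈ orbit P b := by rw [htr b hab.symm]; exact hx
    exact ⟨u, hu, e⟩

end Build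

end DPrim23
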