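import Mathlib

/-!
A circulant `0,1`-matrix of prime order with scalar `p`-th power is a translate of a singleton
or of the complement of one.
-/

set_option autoImplicit false

namespace DPrim23

open Polynomial Matrix

variable {p : ℕ} [hp : Fact p.Prime]

/-- A rational relation among the powers of a primitive `p`-th root of unity is constant. -/
theorem const_of_sum_eq_zero {ζ : ℂ} (hζ : IsPrimitiveRoot ζ p) (h : ZMod p → ℚ)
    (hs : ∑ i, (h i : ℂ) * ζ ^ i.val = 0) : ∀ i j, h i = h j := by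
  classical
  have hp1 := hp.out.one_lt
  have key : ∀ i : ZMod p, h i = h ((p - 1 : ℕ) : ZMod p) := by
    set c := h ((p - 1 : ℕ) : ZMod p)
    let q : ℚ[X] := ∑ i : ZMod p, C (h i - c) * X ^ i.val
    have hcoeff : ∀ i : ZMod p, q.coeff i.val = h i - c := by
      intro i
      simp only [q, finsetSum_coeff, coeff_C_mul, coeff_X_pow, mul_ite, mul_one, mul_zero]
      rw [Finset.sum_eq_single i]
      · simp
      · intro j _ hji
        rw [if_neg fun e => hji (ZMod.val_injective p e).symm]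
      · simp
    have hgeom : ∑ i : ZMod p, ζ ^ i.val = 0 := by
      have e : ∑ i : ZMod p, ζ ^ i.val = ∑ k ∈ Finset.range p, ζ ^ k := by
        refine Finset.sum_nbij' (fun i => i.val) (fun k => (k : ZMod p)) ?_ ?_ ?_ ?_ ?_
        · intro i _; simpa using ZMod.val_lt i
        · intro k _; simp
        · intro i _; simp
        · intro k hk; simpa using ZMod.val_natCast_of_lt (Finset.mem_range.mp hk)
        · intro i _; rfl
      rw [e, hζ.geom_sum_eq_zero hp1]
    have hroot : aeval ζ q = 0 := by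
      simp only [q, map_sum, map_mul, aeval_C, map_pow, aeval_X, eq_ratCast, Rat.cast_sub, sub_mul]
      rw [Finset.sum_sub_distrib, hs, ← Finset.mul_sum, hgeom, mul_zero, sub_zero]
    have hdeg : q.degree < (p - 1 : ℕ) := by
      rw [degree_lt_iff_coeff_zero]
      intro m hm
      by_cases hmp : m < p
      · have : m = p - 1 := by omega
        subst this
        have := hcoeff ((p - 1 : ℕ) : ZMod p)
        rwa [ZMod.val_natCast_of_lt hmp, sub_self] at this
      · simp only [q, finsetSum_coeff, coeff_C_mul, coeff_X_pow]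
        apply Finset.sum_eq_zero
        intro j _
        rw [if_neg (by have := ZMod.val_lt j; omega), mul_zero]
    have hq : q = 0 := by
      by_contra hq0
      have hle := minpoly.degree_le_of_ne_zero ℚ ζ hq0 hroot
      rw [← cyclotomic_eq_minpoly_rat hζ hp.out.pos, degree_cyclotomic,
        Nat.totient_prime hp.out] at hle
      exact absurd (hle.trans_lt hdeg) (lt_irrefl _)
    intro i
    have := hcoeff i
    rw [hq, coeff_zero] at this
    linarith
  intro i j
  rw [key i, key j]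

theorem sum_val_shift {ζ : ℂ} (hζ : ζ ^ p = 1) (f : ZMod p → ℂ) (k : ZMod p) :
    ζ ^ k.val * ∑ i, f i * ζ ^ i.val = ∑ i, f (i - k) * ζ ^ i.val := by
  rw [Finset.mul_sum]
  refine Fintype.sum_equiv (Equiv.addRight k) _ _ fun i => ?_
  simp only [Equiv.coe_addRight, add_sub_cancel_right]
  have : ζ ^ (i + k).val = ζ ^ i.val * ζ ^ k.val :=
    (AddChar.zmodChar p hζ).map_add_eq_mul i k
  rw [this]
  ring

/-- A two valued function whose Gauss sums all have the same `p`-th power is constant off one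
point. -/
theorem const_off_point (hp2 : p ≠ 2) (f : ZMod p → ℚ) (hsum : ∃ i j, f i ≠ f j) (Cst : ℂ)
    (h : ∀ ζ : ℂ, IsPrimitiveRoot ζ p → (∑ i, (f i : ℂ) * ζ ^ i.val) ^ p = Cst) :
    ∃ j, ∀ i k, i ≠ j → k ≠ j → f i = f k := by
  classical
  obtain ⟨gu, hgu⟩ := IsCyclic.exists_generator (α := (ZMod p)ˣ)
  let g : ZMod p := gu
  have hg1 : g ≠ 1 := by
    intro e
    have : Nat.card (ZMod p)ˣ = 1 := by
      rw [Nat.card_eq_one_iff_unique]
      refine ⟨⟨fun x y => ?_⟩, inferInstance⟩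
      have hgu1 : gu = 1 := Units.ext e
      obtain ⟨m, rfl⟩ := Subgroup.mem_zpowers_iff.mp (hgu x)
      obtain ⟨n, rfl⟩ := Subgroup.mem_zpowers_iff.mp (hgu y)
      simp [hgu1]
    rw [Nat.card_eq_fintype_card, ZMod.card_units] at this
    have := hp.out.two_le
    omega
  obtain ⟨ζ, hζ⟩ : ∃ ζ : ℂ, IsPrimitiveRoot ζ p :=
    ⟨_, Complex.isPrimitiveRoot_exp p hp.out.ne_zero⟩
  have hζp : ζ ^ p = 1 := hζ.pow_eq_one
  have hg0 : g ≠ 0 := gu.ne_zero
  have hζ' : IsPrimitiveRoot (ζ ^ g.val) p :=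
    hζ.pow_of_coprime _ ((hp.out.coprime_iff_not_dvd.mpr (fun hd => hg0 (by
      rw [← ZMod.natCast_zmod_val g, ZMod.natCast_eq_zero_iff]; exact hd))).symm)
  set s := ∑ i, (f i : ℂ) * ζ ^ i.val with hs
  set s' := ∑ i, (f i : ℂ) * (ζ ^ g.val) ^ i.val with hs'
  have hs0 : s ≠ 0 := by
    intro e
    obtain ⟨i, j, hij⟩ := hsum
    exact hij (const_of_sum_eq_zero hζ f e i j)
  have hpow : (s' / s) ^ p = 1 := by
    rw [div_pow, h _ hζ', ← h _ hζ, ← hs, div_self (pow_ne_zero _ hs0)]
  obtain ⟨k, hk, hke⟩ := hζ.eq_pow_of_pow_eq_one hpow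
  rw [eq_div_iff hs0] at hke
  have e1 : s' = ∑ i, (f (g⁻¹ * i) : ℂ) * ζ ^ i.val := by
    rw [hs']
    refine Fintype.sum_equiv (Equiv.mulLeft₀ g hg0) _ _ fun i => ?_
    simp only [Equiv.mulLeft₀_apply, inv_mul_cancel_left₀ hg0]
    rw [← pow_mul, pow_eq_pow_mod (g.val * i.val) hζp, ← ZMod.val_mul]
  have e2 : s' = ∑ i, (f (i - (k : ZMod p)) : ℂ) * ζ ^ i.val := by
    rw [← sum_val_shift hζp (fun i => (f i : ℂ)) (k : ZMod p), ZMod.val_natCast_of_lt hk, ← hs, hke]
  have hdiff : ∀ i, f (g⁻¹ * i) = f (i - (k : ZMod p)) := by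
    have hc := const_of_sum_eq_zero hζ (fun i => f (g⁻¹ * i) - f (i - (k : ZMod p))) (by
      simp only [Rat.cast_sub, sub_mul, Finset.sum_sub_distrib]
      rw [← e1, ← e2, sub_self])
    have htot : ∑ i, (f (g⁻¹ * i) - f (i - (k : ZMod p))) = 0 := by
      rw [Finset.sum_sub_distrib, sub_eq_zero]
      exact (Equiv.sum_comp (Equiv.mulLeft₀ g⁻¹ (inv_ne_zero hg0)) f).trans
        (Equiv.sum_comp (Equiv.subRight (k : ZMod p)) f).symm
    intro i
    rw [Finset.sum_congr rfl (fun j _ => hc j i), Finset.sum_const, Finset.card_univ,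
      ZMod.card, nsmul_eq_mul, mul_eq_zero] at htot
    exact sub_eq_zero.mp (htot.resolve_left (Nat.cast_ne_zero.mpr hp.out.ne_zero))
  have hτ : ∀ j, f (g * j - (k : ZMod p)) = f j := fun j => by
    rw [← hdiff, inv_mul_cancel_left₀ hg0]
  set j0 := (k : ZMod p) / (g - 1) with hj0
  have hj : g * j0 - (k : ZMod p) = j0 := by
    have : (g - 1) * j0 = (k : ZMod p) := by
      rw [hj0, mul_div_cancel₀ _ (sub_ne_zero.mpr hg1)]
    rw [sub_mul, one_mul] at this
    rw [← this]
    ring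
  have hiter : ∀ (m : ℕ) j, f (g ^ m * (j - j0) + j0) = f j := by
    intro m
    induction m with
    | zero => intro j; simp
    | succ m ih =>
      intro j
      rw [← ih j, ← hτ (g ^ m * (j - j0) + j0)]
      congr 1
      linear_combination - hj
  refine ⟨j0, fun i i' hi hi' => ?_⟩
  obtain ⟨m, hm⟩ := Submonoid.mem_powers_iff _ _ |>.mp
    ((isOfFinOrder_of_finite gu).mem_powers_iff_mem_zpowers.mpr
      (hgu (Units.mk0 _ (sub_ne_zero.mpr hi') / Units.mk0 _ (sub_ne_zero.mpr hi))))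
  have hm' : g ^ m = (i' - j0) / (i - j0) := by
    have := congrArg Units.val hm
    simpa using this
  rw [← hiter m i, hm', div_mul_cancel₀ _ (sub_ne_zero.mpr hi), sub_add_cancel]

/-- A twisted invariant circulant with doubly transitive symmetry has Gauss sums with constant
`p`-th power. -/
theorem gauss_pow_eq {I : Type*} (f : ZMod p → ℚ) (π : ℕ → I → Equiv.Perm (ZMod p))
    (hπ : ∀ n g i j, f (π (n + 1) g j - π n g i) = f (j - i)) (hper : ∀ g, π p g = π 0 g)
    (htr : ∀ i j i' j', i ≠ j → i' ≠ j' → ∃ g, π 0 g i = i' ∧ π 0 g j = j') :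
    ∃ Cst : ℂ, ∀ ζ : ℂ, IsPrimitiveRoot ζ p → (∑ i, (f i : ℂ) * ζ ^ i.val) ^ p = Cst := by
  classical
  let T : Matrix (ZMod p) (ZMod p) ℂ := Matrix.of fun i j => (f (j - i) : ℂ)
  have hT : ∀ n g i j, (T ^ n) (π 0 g i) (π n g j) = (T ^ n) i j := by
    intro n g
    induction n with
    | zero =>
      intro i j
      simp [Matrix.one_apply]
    | succ n ih =>
      intro i j
      rw [pow_succ, Matrix.mul_apply, Matrix.mul_apply]
      refine (Fintype.sum_equiv (π n g) _ _ fun k => ?_).symm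
      simp only [T, Matrix.of_apply]
      rw [ih, hπ]
  have hp1 := hp.out.one_lt
  set K := T ^ p
  have hK : ∀ g i j, K (π 0 g i) (π 0 g j) = K i j := fun g i j => by
    have := hT p g i j
    rwa [hper] at this
  refine ⟨K 0 0 - K 0 1, fun ζ hζ => ?_⟩
  have hζp : ζ ^ p = 1 := hζ.pow_eq_one
  set s := ∑ i, (f i : ℂ) * ζ ^ i.val
  let v : ZMod p → ℂ := fun j => ζ ^ j.val
  have hTv : T *ᵥ v = s • v := by
    funext i
    simp only [Matrix.mulVec, dotProduct, T, Matrix.of_apply, v, Pi.smul_apply, smul_eq_mul, s]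
    rw [mul_comm, sum_val_shift hζp (fun j => (f j : ℂ)) i]
  have hKv : K *ᵥ v = (s ^ p) • v := by
    have : ∀ n, T ^ n *ᵥ v = (s ^ n) • v := by
      intro n
      induction n with
      | zero => simp
      | succ n ih =>
        rw [pow_succ, ← Matrix.mulVec_mulVec, hTv, Matrix.mulVec_smul, ih, smul_smul, pow_succ']
    exact this p
  have h0 := congrFun hKv 0
  simp only [Matrix.mulVec, dotProduct, Pi.smul_apply, smul_eq_mul, v, ZMod.val_zero, pow_zero,
    mul_one] at h0
  rw [← h0]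
  have hoff : ∀ j : ZMod p, j ≠ 0 → K 0 j = K 0 1 := by
    intro j hj
    obtain ⟨g, h1, h2⟩ := htr 0 1 0 j zero_ne_one hj.symm
    conv_lhs => rw [← h1, ← h2]
    exact hK g 0 1
  have hgeom : ∑ i : ZMod p, ζ ^ i.val = 0 := by
    have := sum_val_shift hζp (fun _ => (1 : ℂ)) 1
    simp only [one_mul] at this
    rw [ZMod.val_one, pow_one] at this
    have : (ζ - 1) * ∑ i : ZMod p, ζ ^ i.val = 0 := by rw [sub_mul, one_mul, this, sub_self]
    exact (mul_eq_zero.mp this).resolve_left (sub_ne_zero.mpr (hζ.ne_one hp1))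
  rw [← Finset.add_sum_erase _ _ (Finset.mem_univ (0 : ZMod p))] at hgeom ⊢
  rw [Finset.sum_congr rfl (fun j hj => by rw [hoff j (Finset.ne_of_mem_erase hj)]),
    ← Finset.mul_sum]
  simp only [ZMod.val_zero, pow_zero] at hgeom ⊢
  linear_combination (K 0 1) * hgeom

end DPrim23
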