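import Cfsg.Agent.DPrim23.Kernel
import Cfsg.Agent.DPrim23.Circulant
import Cfsg.Agent.Lib.Perm.PrimeDegreeOrders

/-!
The part of the Sylow subgroup fixing every block is normal in the point stabiliser.
-/

set_option autoImplicit false
set_option linter.unusedSectionVars false

namespace DPrim23

open MulAction
open scoped Pointwise

variable {G Ω : Type*} [Group G] [MulAction G Ω] [Finite G] [Fintype Ω] [FaithfulSMul G Ω]
  [IsMultiplyPretransitive G Ω 2] {p : ℕ} {a b : Ω} {B : Set Ω} {P : Subgroup G}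

/-- The action of `kerBlk` on the block through `b`. -/
def blkSub (S : Setup G p a b B P) : SubMulAction (kerBlk G a B) Ω where
  carrier := B
  smul_mem' g x hx := by
    have := (mem_kerBlk.mp g.2).2 b
    rw [S.blk.cls_a] at this
    show (g : G) • x ∈ B
    have h2 := Set.smul_mem_smul_set (a := (g : G)) hx
    rwa [this] at h2

theorem Setup.card_kerBlk_pgroup (S : Setup G p a b B P) {R : Subgroup G}
    (hR : R ≤ kerBlk G a B) (hp' : IsPGroup p R) : Nat.card R ≤ p := by
  have := Fact.mk S.prime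
  have hb := S.blk.ab_ne.symm
  have h1 : Nat.card ↥(R ⊓ stabilizer G b) = 1 := by
    obtain ⟨n, hn⟩ := IsPGroup.iff_card.mp (hp'.to_le (inf_le_left : R ⊓ stabilizer G b ≤ R))
    rcases Nat.eq_zero_or_pos n with h0 | h0
    · rw [hn, h0, pow_zero]
    · exfalso
      apply S.cop a b S.blk.ab_ne
      exact ((dvd_pow_self p h0.ne').trans hn.symm.dvd).trans
        (Subgroup.card_dvd_of_le (inf_le_inf (fun g hg => (hR hg).1) le_rfl))
  rw [← card_orbit_mul R b, h1, mul_one, ← S.blk.ncard]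
  refine Set.ncard_le_ncard ?_ (Set.toFinite _)
  rintro _ ⟨⟨g, hg⟩, rfl⟩
  have := S.kerBlk_smul_mem (hR hg) hb
  rwa [S.blk.cls_a] at this

/-- If `kerBlk` normalises `blkGrp` then so does the point stabiliser. -/
theorem Setup.normal_of_kerBlk (S : Setup G p a b B P)
    (h : ∀ m ∈ kerBlk G a B, ∀ z ∈ blkGrp B P, m * z * m⁻¹ ∈ blkGrp B P)
    {g : G} (hg : g • a = a) {z : G} (hz : z ∈ blkGrp B P) : g * z * g⁻¹ ∈ blkGrp B P := by
  have := Fact.mk S.prime
  set Z := blkGrp B P with hZ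
  let R := Z.map (MulAut.conj g).toMonoidHom
  have hRM : R ≤ kerBlk G a B := by
    rintro _ ⟨w, hw, rfl⟩
    exact S.conj_kerBlk hg (S.blkGrp_le_kerBlk hw)
  have hZp : IsPGroup p Z := S.isPGroup.to_le inf_le_left
  have hRn : R ≤ Subgroup.normalizer (Z : Set G) := fun m hm =>
    Subgroup.mem_normalizer_fintype fun w hw => h m (hRM hm) w hw
  have hsup : IsPGroup p ↥(R ⊔ Z) := (hZp.map _).to_sup_of_normal_right' hZp hRn
  have hle := S.card_kerBlk_pgroup (sup_le hRM S.blkGrp_le_kerBlk) hsup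
  rw [← S.card_blkGrp] at hle
  exact (Subgroup.eq_of_le_of_card_ge le_sup_right hle).ge
    (Subgroup.mem_sup_left ⟨z, hz, rfl⟩)

section Main

variable (S : Setup G p a b B P)
  (hbad : ¬ ∀ m ∈ kerBlk G a B, ∀ z ∈ blkGrp B P, m * z * m⁻¹ ∈ blkGrp B P)

include S hbad

theorem caseA_odd : p ≠ 2 := by
  rintro rfl
  apply hbad
  intro m hm z hz
  have hb := S.blk.ab_ne.symm
  suffices hmZ : m ∈ blkGrp B P from mul_mem (mul_mem hmZ hz) (inv_mem hmZ)
  have hmb : m • b ∈ B := by
    have := S.kerBlk_smul_mem hm hb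
    rwa [S.blk.cls_a] at this
  obtain ⟨w, hw, hwb⟩ := S.exists_blkGrp hmb
  suffices e : w⁻¹ * m = 1 from (inv_mul_eq_one.mp e) ▸ hw
  refine S.kerBlk_faithful hb (mul_mem (inv_mem (S.blkGrp_le_kerBlk hw)) hm) fun y hy => ?_
  rw [S.blk.cls_a] at hy
  have hfix : (w⁻¹ * m) • b = b := by rw [mul_smul, ← hwb, inv_smul_smul]
  have hmem : (w⁻¹ * m) • y ∈ B :=
    (blkSub S).smul_mem ⟨_, mul_mem (inv_mem (S.blkGrp_le_kerBlk hw)) hm⟩ hy
  by_cases hyb : y = b
  · rw [hyb, hfix]
  obtain ⟨s, t, -, hB⟩ := Set.ncard_eq_two.mp S.blk.ncard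
  have hne : (w⁻¹ * m) • y ≠ b := fun e => hyb (smul_left_cancel _ (e.trans hfix.symm))
  have hbm := S.blk.mem
  rw [hB] at hy hmem hbm
  simp only [Set.mem_insert_iff, Set.mem_singleton_iff] at hy hmem hbm
  rcases hbm with rfl | rfl <;> rcases hy with rfl | rfl <;> rcases hmem with h | h <;>
    first | exact h | exact absurd h hne | exact absurd rfl hyb

/-- `kerBlk` is doubly transitive on the block. -/
theorem caseA_pairs {x y x' y' : Ω} (hx : x ∈ B) (hy : y ∈ B) (hx' : x' ∈ B) (hy' : y' ∈ B)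
    (hxy : x ≠ y) (hxy' : x' ≠ y') : ∃ g ∈ kerBlk G a B, g • x = x' ∧ g • y = y' := by
  classical
  have := Fact.mk S.prime
  set M := kerBlk G a B with hM
  let X := blkSub S
  have hX : Fintype.card X = p := by
    rw [← Nat.card_eq_fintype_card, ← S.blk.ncard, ← Nat.card_coe_set_eq]
    rfl
  have hb := S.blk.ab_ne.symm
  have : FaithfulSMul M X := ⟨fun {g h} e => by
    apply Subtype.ext
    refine (inv_mul_eq_one.mp (S.kerBlk_faithful hb (mul_mem (inv_mem g.2) h.2) fun z hz => ?_))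
    rw [S.blk.cls_a] at hz
    have := congrArg Subtype.val (e ⟨z, hz⟩)
    rw [mul_smul, inv_smul_eq_iff]
    exact this.symm⟩
  have : IsPretransitive M X := ⟨fun s t => by
    obtain ⟨z, hz, e⟩ := S.exists_blkGrp_smul (x := (s : Ω)) (y := (t : Ω))
      (fun e => S.blk.notMem (e ▸ s.2)) (by rw [S.blk.cls_base s.2]; exact t.2)
    exact ⟨⟨z, S.blkGrp_le_kerBlk hz⟩, Subtype.ext e⟩⟩
  rcases Cfsg.Agent.FGS80.Burnside.isSolvable_or_two_transitive (G := M) (Ω := X) hX with h | h
  · exfalso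
    apply hbad
    let φ := MulAction.toPermHom M X
    have hφ : Function.Injective φ := MulAction.toPerm_injective
    have hsol : Group.IsSolvable φ.range :=
      Group.isSolvable_of_surjective φ.rangeRestrict_surjective
    have : IsPretransitive φ.range X := ⟨fun s t => by
      obtain ⟨g, hg⟩ := exists_smul_eq M s t
      exact ⟨⟨φ g, g, rfl⟩, hg⟩⟩
    obtain ⟨Q, hQ⟩ := ((S.isPGroup.to_le (inf_le_left : blkGrp B P ≤ P)).comap_subtype (K := M)
      |>.map φ.rangeRestrict).exists_le_sylow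
    have hQn := Cfsg.Agent.Perm.PrimeDeg.normal_sylow_of_isSolvable hX hsol Q
    have hQc := Cfsg.Agent.Perm.PrimeDeg.card_sylow hX Q
    have hinj : Function.Injective φ.rangeRestrict := MonoidHom.rangeRestrict_injective_iff.mpr hφ
    have hcard : Nat.card ((blkGrp B P).subgroupOf M |>.map φ.rangeRestrict) = p := by
      rw [Subgroup.card_map_of_injective hinj,
        Nat.card_congr (Subgroup.subgroupOfEquivOfLe S.blkGrp_le_kerBlk).toEquiv, S.card_blkGrp]
    have heq := Subgroup.eq_of_le_of_card_ge hQ (hQc.trans hcard.symm).le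
    intro m hm z hz
    have hzq : φ.rangeRestrict ⟨z, S.blkGrp_le_kerBlk hz⟩ ∈ (Q : Subgroup φ.range) :=
      hQ ⟨_, hz, rfl⟩
    have h2 := hQn.conj_mem _ hzq (φ.rangeRestrict ⟨m, hm⟩)
    rw [← map_inv, ← map_mul, ← map_mul, ← heq] at h2
    obtain ⟨w, hw, e⟩ := h2
    have : (w : G) = m * z * m⁻¹ := congrArg Subtype.val (hinj e)
    rw [← this]
    exact hw
  · obtain ⟨g, h1, h2⟩ := exists_pair M (a := (⟨x, hx⟩ : X)) (b := ⟨y, hy⟩) (c := ⟨x', hx'⟩)
      (x := ⟨y', hy'⟩) (fun e => hxy (congrArg Subtype.val e))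
      (fun e => hxy' (congrArg Subtype.val e))
    exact ⟨g, g.2, congrArg Subtype.val h1, congrArg Subtype.val h2⟩

/-- Only `b` is fixed in the block by its stabiliser. -/
theorem caseA_fix_unique {y : Ω} (hy : y ∈ B)
    (h : ∀ g ∈ kerBlk G a B, g • b = b → g • y = y) : y = b := by
  by_contra hne
  have h3 : 2 < B.ncard := by
    rw [S.blk.ncard]
    have := S.prime.two_le
    have := caseA_odd S hbad
    omega
  obtain ⟨w, hw, hwne⟩ : ∃ w ∈ B, w ∉ ({b, y} : Set Ω) := by
    apply Set.exists_mem_notMem_of_ncard_lt_ncard _ (Set.toFinite _)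
    have := Set.ncard_pair (Ne.symm hne)
    omega
  simp only [Set.mem_insert_iff, Set.mem_singleton_iff, not_or] at hwne
  obtain ⟨g, hg, h1, h2⟩ :=
    caseA_pairs S hbad S.blk.mem hy S.blk.mem hw (Ne.symm hne) (Ne.symm hwne.1)
  exact hwne.2 (h2.symm.trans (h g hg h1))

/-- Some element of `kerBlk` normalises `blkGrp` without centralising it. -/
theorem caseA_exists_normalizing : ∃ e ∈ kerBlk G a B,
    (∀ z ∈ blkGrp B P, e * z * e⁻¹ ∈ blkGrp B P) ∧ ∃ z ∈ blkGrp B P, e * z ≠ z * e := by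
  classical
  have := Fact.mk S.prime
  by_contra hcon
  push Not at hcon
  set M := kerBlk G a B with hM
  set Z := blkGrp B P with hZ
  have hb := S.blk.ab_ne.symm
  have hcardM : Nat.card M = p * Nat.card ↥(M ⊓ stabilizer G b) := by
    rw [← card_orbit_mul M b, ← S.blk.ncard]
    congr 2
    apply subset_antisymm
    · rintro _ ⟨⟨g, hg⟩, rfl⟩
      have := S.kerBlk_smul_mem hg hb
      rwa [S.blk.cls_a] at this
    · intro y hy
      obtain ⟨z, hz, rfl⟩ := S.exists_blkGrp hy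
      exact ⟨⟨z, S.blkGrp_le_kerBlk hz⟩, rfl⟩
  have hcopMb : ¬ p ∣ Nat.card ↥(M ⊓ stabilizer G b) := fun hd =>
    S.cop a b S.blk.ab_ne (hd.trans (Subgroup.card_dvd_of_le
      (inf_le_inf (fun g hg => (mem_kerBlk.mp hg).1) le_rfl)))
  have hZM : Z ≤ M := S.blkGrp_le_kerBlk
  have hcZ : Nat.card (Z.subgroupOf M) = p :=
    (Nat.card_congr (Subgroup.subgroupOfEquivOfLe hZM).toEquiv).trans S.card_blkGrp
  have hidx : (Z.subgroupOf M).index = Nat.card ↥(M ⊓ stabilizer G b) := by
    have := Subgroup.index_mul_card (Z.subgroupOf M)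
    rw [hcZ, hcardM, mul_comm p] at this
    exact Nat.eq_of_mul_eq_mul_right S.prime.pos this
  let Q : Sylow p M := IsPGroup.toSylow (IsPGroup.of_card (n := 1) (by rw [hcZ, pow_one]))
    (by rw [hidx]; exact hcopMb)
  have hQ : (Q : Subgroup M) = Z.subgroupOf M := rfl
  have hle : Subgroup.normalizer ((Q : Subgroup M) : Set M) ≤
      Subgroup.centralizer ((Q : Subgroup M) : Set M) := by
    intro e he
    rw [Subgroup.mem_centralizer_iff]
    intro z hz
    apply Subtype.ext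
    have h' : ∀ w ∈ Z, (e : G) * w * (e : G)⁻¹ ∈ Z := fun w hw =>
      (Subgroup.mem_normalizer_iff.mp he ⟨w, hZM hw⟩).mp hw
    exact (hcon e e.2 h' z hz).symm
  set f := MonoidHom.transferSylow Q hle
  have hMb : M ⊓ stabilizer G b ≤ f.ker.map M.subtype := by
    intro g hg
    refine ⟨⟨g, hg.1⟩, ?_, rfl⟩
    show f ⟨g, hg.1⟩ = 1
    have h1 : orderOf (f ⟨g, hg.1⟩) ∣ p := by
      exact (orderOf_dvd_natCard (G := (Q : Subgroup M)) _).trans hcZ.dvd
    have h2 : orderOf (f ⟨g, hg.1⟩) ∣ Nat.card ↥(M ⊓ stabilizer G b) := by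
      refine (orderOf_map_dvd f _).trans ?_
      rw [← Subgroup.orderOf_coe]
      exact (Subgroup.orderOf_coe (⟨g, hg⟩ : ↥(M ⊓ stabilizer G b))).symm ▸ orderOf_dvd_natCard _
    rcases (Nat.dvd_prime S.prime).mp h1 with h | h
    · exact orderOf_eq_one_iff.mp h
    · exact absurd (h ▸ h2) hcopMb
  have hc := MonoidHom.ker_transferSylow_isComplement' Q hle
  have hker : M ⊓ stabilizer G b = f.ker.map M.subtype := by
    refine Subgroup.eq_of_le_of_card_ge hMb ?_
    rw [Subgroup.card_subtype]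
    have := hc.card_mul_card
    rw [show Nat.card ↥(Q : Subgroup M) = p from hcZ, hcardM, mul_comm p] at this
    exact (Nat.eq_of_mul_eq_mul_right S.prime.pos this).le
  apply hbad
  intro m hm z hz
  suffices hmZ : ∀ m ∈ M, m ∈ Z from mul_mem (mul_mem (hmZ m hm) hz) (inv_mem (hmZ m hm))
  intro m hm
  have hmb : m • b ∈ B := by
    have := S.kerBlk_smul_mem hm hb
    rwa [S.blk.cls_a] at this
  obtain ⟨w, hw, hwb⟩ := S.exists_blkGrp hmb
  suffices e : w⁻¹ * m = 1 from (inv_mul_eq_one.mp e) ▸ hw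
  refine S.kerBlk_faithful hb (mul_mem (inv_mem (hZM hw)) hm) fun y hy => ?_
  rw [S.blk.cls_a] at hy
  obtain ⟨v, hv, rfl⟩ := S.exists_blkGrp hy
  have hfix : w⁻¹ * m ∈ M ⊓ stabilizer G b :=
    Subgroup.mem_inf.mpr ⟨mul_mem (inv_mem (hZM hw)) hm, by
      show (w⁻¹ * m) • b = b
      rw [mul_smul, ← hwb, inv_smul_smul]⟩
  rw [hker] at hfix
  obtain ⟨k, hk, hke⟩ := hfix
  have hk' : v⁻¹ * (w⁻¹ * m) * v ∈ M ⊓ stabilizer G b := by
    rw [hker]
    refine ⟨⟨v, hZM hv⟩⁻¹ * k * ⟨v, hZM hv⟩, ?_, ?_⟩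
    · simpa using f.normal_ker.conj_mem k hk (⟨v, hZM hv⟩ : M)⁻¹
    · simpa using hke
  have := (Subgroup.mem_inf.mp hk').2
  rw [mem_stabilizer_iff, mul_smul, mul_smul, inv_smul_eq_iff] at this
  exact this

/-- The Sylow subgroup has exponent `p`. -/
theorem caseA_exponent {u : G} (hu : u ∈ P) : u ^ p = 1 := by
  have := Fact.mk S.prime
  obtain ⟨e, heM, hen, z0, hz0, hne⟩ := caseA_exists_normalizing S hbad
  have huM : u * e * u⁻¹ ∈ kerBlk G a B := S.conj_kerBlk (S.smul_a hu) heM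
  have hk : e⁻¹ * (u * e * u⁻¹) ∈ blkGrp B P := by
    refine S.centralizer_blkGrp_kerBlk (mul_mem (inv_mem heM) huM) fun z hz => ?_
    have h1 : u * (e * z * e⁻¹) * u⁻¹ = e * z * e⁻¹ := by
      rw [S.comm u hu _ (hen z hz).1, mul_inv_cancel_right]
    have h2 : u⁻¹ * z * u = z := by rw [mul_assoc, S.comm z hz.1 u hu, inv_mul_cancel_left]
    calc e⁻¹ * (u * e * u⁻¹) * z = e⁻¹ * (u * (e * (u⁻¹ * z * u) * e⁻¹) * u⁻¹) * (u * e * u⁻¹) := by
          group
      _ = z * (e⁻¹ * (u * e * u⁻¹)) := by rw [h2, h1]; group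
  have hidx : ∀ v ∈ P, v ^ p ∈ blkGrp B P := by
    intro v hv
    let H := (blkGrp B P).subgroupOf P
    have : IsMulCommutative P := ⟨⟨fun x y => Subtype.ext (S.comm x x.2 y y.2)⟩⟩
    have hH : H.index = p := by
      have := Subgroup.index_mul_card H
      rw [show Nat.card H = Nat.card (blkGrp B P) from Nat.card_congr (Subgroup.subgroupOfEquivOfLe (inf_le_left : blkGrp B P ≤ P)).toEquiv,
        S.card_blkGrp, S.cardP, pow_two] at this
      exact Nat.eq_of_mul_eq_mul_right S.prime.pos this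
    have := H.pow_index_mem (g := (⟨v, hv⟩ : P))
    rw [hH] at this
    exact this
  have hcomm : e⁻¹ * u ^ p * e = u ^ p := by
    have h1 : e⁻¹ * u * e = (e⁻¹ * (u * e * u⁻¹)) * u := by group
    have h2 : (e⁻¹ * u * e) ^ p = e⁻¹ * u ^ p * e := by
      have := conj_pow (i := p) (a := e⁻¹) (b := u)
      rwa [inv_inv] at this
    have hkp : (e⁻¹ * (u * e * u⁻¹)) ^ p = 1 := by
      have hd := orderOf_dvd_natCard (⟨_, hk⟩ : blkGrp B P)
      rw [Subgroup.orderOf_mk, S.card_blkGrp] at hd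
      exact orderOf_dvd_iff_pow_eq_one.mp hd
    rw [← h2, h1, (show Commute _ u from S.comm _ hk.1 u hu).mul_pow, hkp, one_mul]
  by_contra hup
  have hgen : Subgroup.zpowers (u ^ p) = blkGrp B P := by
    refine Subgroup.eq_of_le_of_card_ge (Subgroup.zpowers_le.mpr (hidx u hu)) ?_
    rw [Nat.card_zpowers, S.card_blkGrp]
    have h := orderOf_dvd_natCard (⟨_, hidx u hu⟩ : blkGrp B P)
    rw [Subgroup.orderOf_mk, S.card_blkGrp] at h
    rcases (Nat.dvd_prime S.prime).mp h with h | h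
    · exact absurd (orderOf_eq_one_iff.mp h) hup
    · exact h.ge
  obtain ⟨n, rfl⟩ := Subgroup.mem_zpowers_iff.mp (hgen ▸ hz0)
  apply hne
  have hc : Commute e (u ^ p) := by
    show e * u ^ p = u ^ p * e
    conv_lhs => rw [← hcomm]
    group
  exact hc.zpow_right n

/-- The stabiliser of `b` in `kerBlk` fixes a point in every block. -/
theorem caseA_exists_fixed {x : Ω} (hx : x ≠ a) :
    ∃ y ∈ cls G a B a x, ∀ g ∈ kerBlk G a B, g • b = b → g • y = y := by
  classical
  have := Fact.mk S.prime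
  obtain ⟨u, hu, rfl⟩ := S.trans x hx
  rw [S.cls_smul_b (S.smul_a hu)]
  obtain ⟨z0, hz0, hz0ne⟩ := (blkGrp B P).bot_or_exists_ne_one.resolve_left (fun e => by
    have := S.card_blkGrp
    rw [e, Subgroup.card_bot] at this
    exact S.prime.one_lt.ne this)
  have hz0p : orderOf z0 = p := by
    have h := orderOf_dvd_natCard (⟨z0, hz0⟩ : blkGrp B P)
    rw [Subgroup.orderOf_mk, S.card_blkGrp] at h
    exact ((Nat.dvd_prime S.prime).mp h).resolve_left (fun h => hz0ne (orderOf_eq_one_iff.mp h))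
  let φ : ZMod p → G := fun i => z0 ^ i.val
  have hφZ : ∀ i, φ i ∈ blkGrp B P := fun i => pow_mem hz0 _
  have hφ : ∀ i j, φ (i + j) = φ i * φ j := fun i j => by
    simp only [φ]
    rw [← pow_add, ZMod.val_add]
    exact (pow_eq_pow_mod _ (orderOf_dvd_iff_pow_eq_one.mp hz0p.dvd)).symm
  have hb := S.blk.ab_ne.symm
  let co : ZMod p → B := fun i => ⟨φ i • b, (S.mem_blkGrp.mp (hφZ i)).2⟩
  have hco : Function.Bijective co := by
    refine (Nat.bijective_iff_injective_and_card co).mpr ⟨fun i j e => ?_, ?_⟩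
    · have e' : φ i • b = φ j • b := congrArg Subtype.val e
      have := S.free _ (mul_mem (inv_mem (hφZ i).1) (hφZ j).1) b hb
        (by rw [mul_smul, ← e', inv_smul_smul])
      have h2 : z0 ^ i.val = z0 ^ j.val := inv_mul_eq_one.mp this
      apply ZMod.val_injective p
      exact pow_injOn_Iio_orderOf (by rw [hz0p]; exact ZMod.val_lt i)
        (by rw [hz0p]; exact ZMod.val_lt j) h2
    · rw [Nat.card_zmod, Nat.card_coe_set_eq, S.blk.ncard]
  let ec := Equiv.ofBijective co hco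
  let M := kerBlk G a B
  let rel : Ω → Ω → Prop := fun x y => ∃ g ∈ M, g • b = x ∧ g • (u • b) = y
  have hrel : ∀ g ∈ M, ∀ x y, rel (g • x) (g • y) ↔ rel x y := by
    intro g hg x y
    constructor
    · rintro ⟨k, hk, h1, h2⟩
      exact ⟨g⁻¹ * k, mul_mem (inv_mem hg) hk, by rw [mul_smul, h1, inv_smul_smul],
        by rw [mul_smul, h2, inv_smul_smul]⟩
    · rintro ⟨k, hk, h1, h2⟩
      exact ⟨g * k, mul_mem hg hk, by rw [mul_smul, h1], by rw [mul_smul, h2]⟩
  let f : ZMod p → ℚ := fun k => if rel b (u • φ k • b) then 1 else 0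
  have hf : ∀ i j, (if rel (φ i • b) (u • φ j • b) then (1 : ℚ) else 0) = f (j - i) := by
    intro i j
    have e : rel (φ i • b) (u • φ j • b) ↔ rel b (u • φ (j - i) • b) := by
      conv_rhs => rw [← hrel (φ i) (S.blkGrp_le_kerBlk (hφZ i))]
      rw [smul_smul (φ i) u, S.comm (φ i) (hφZ i).1 u hu, mul_smul, smul_smul (φ i), ← hφ,
        add_sub_cancel]
    simp only [f, e]
  have hconj : ∀ (n : ℕ) (g : M), (u ^ n)⁻¹ * (g : G) * u ^ n ∈ M := fun n g => by
    have := S.conj_kerBlk (S.smul_a (inv_mem (pow_mem hu n))) g.2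
    rwa [inv_inv] at this
  let π : ℕ → M → Equiv.Perm (ZMod p) := fun n g =>
    ec.trans ((MulAction.toPerm (α := M) (β := blkSub S) ⟨_, hconj n g⟩).trans ec.symm)
  have hπv : ∀ n (g : M) i, φ (π n g i) • b = ((u ^ n)⁻¹ * (g : G) * u ^ n) • φ i • b := by
    intro n g i
    have : ((ec (π n g i) : B) : Ω) = ((u ^ n)⁻¹ * (g : G) * u ^ n) • ((ec i : B) : Ω) := by
      exact congrArg Subtype.val (ec.apply_symm_apply _)
    exact this
  have hππ : ∀ n g i j, f (π (n + 1) g j - π n g i) = f (j - i) := by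
    intro n g i j
    rw [← hf, ← hf]
    have e : u • φ (π (n + 1) g j) • b = ((u ^ n)⁻¹ * (g : G) * u ^ n) • u • φ j • b := by
      rw [hπv, pow_succ, smul_smul, smul_smul, smul_smul, smul_smul]
      group
    rw [hπv, e]
    simp only [hrel _ (hconj n g)]
  have hper : ∀ g, π p g = π 0 g := by
    intro g
    have h1 : (⟨_, hconj p g⟩ : M) = ⟨_, hconj 0 g⟩ :=
      Subtype.ext (by simp [caseA_exponent S hbad hu])
    simp only [π, h1]
  have htr : ∀ i j i' j', i ≠ j → i' ≠ j' → ∃ g, π 0 g i = i' ∧ π 0 g j = j' := by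
    intro i j i' j' hij hij'
    have hne : ∀ {i j}, i ≠ j → φ i • b ≠ φ j • b := fun {i j} h e => h (hco.1 (Subtype.ext e))
    obtain ⟨g, hg, h1, h2⟩ := caseA_pairs S hbad (co i).2 (co j).2 (co i').2 (co j').2
      (hne hij) (hne hij')
    refine ⟨⟨g, hg⟩, ?_, ?_⟩ <;> apply hco.1 <;> apply Subtype.ext
    · exact (hπv 0 _ i).trans (by simpa using h1)
    · exact (hπv 0 _ j).trans (by simpa using h2)
  obtain ⟨Cst, hC⟩ := gauss_pow_eq f π hππ hper htr
  have hsurj : ∀ y ∈ u • B, ∃ k, y = u • φ k • b := by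
    rintro _ ⟨w, hw, rfl⟩
    obtain ⟨k, hk⟩ := hco.2 ⟨w, hw⟩
    refine ⟨k, ?_⟩
    show u • w = _
    rw [show φ k • b = w from congrArg Subtype.val hk]
  have huB : ∀ g ∈ M, ∀ y ∈ u • B, g • y ∈ u • B := by
    intro g hg y hy
    have := (mem_kerBlk.mp hg).2 (u • b)
    rw [S.cls_smul_b (S.smul_a hu)] at this
    rw [← this]
    exact Set.smul_mem_smul_set hy
  have hnonconst : ∃ i j, f i ≠ f j := by
    have h0 : f 0 = 1 := by
      have : φ 0 = 1 := by simp [φ]
      simp only [f, this, one_smul]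
      exact if_pos ⟨1, one_mem _, one_smul _ _, one_smul _ _⟩
    by_contra hall
    push Not at hall
    have hsub : u • B ⊆ orbit ↥(M ⊓ stabilizer G b) (u • b) := by
      intro y hy
      obtain ⟨k, rfl⟩ := hsurj y hy
      have : f k = 1 := (hall k 0).trans h0
      simp only [f] at this
      have hr : rel b (u • φ k • b) := by
        by_contra hr
        rw [if_neg hr] at this
        exact zero_ne_one this
      obtain ⟨g, hg, h1, h2⟩ := hr
      exact ⟨⟨g, Subgroup.mem_inf.mpr ⟨hg, h1⟩⟩, h2⟩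
    have hcard : (orbit ↥(M ⊓ stabilizer G b) (u • b)).ncard = p := by
      rw [← S.blk.ncard, ← Set.ncard_smul_set u B]
      refine congrArg Set.ncard (subset_antisymm ?_ hsub)
      rintro _ ⟨⟨g, hg⟩, rfl⟩
      exact huB g hg.1 _ (Set.smul_mem_smul_set S.blk.mem)
    have := card_orbit_mul (M ⊓ stabilizer G b) (u • b)
    rw [hcard] at this
    exact S.cop a b S.blk.ab_ne (Dvd.dvd.trans ⟨_, this.symm⟩
      (Subgroup.card_dvd_of_le (inf_le_inf (fun g hg => (mem_kerBlk.mp hg).1) le_rfl)))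
  obtain ⟨j, hj⟩ := const_off_point (caseA_odd S hbad) f hnonconst Cst hC
  have huniq : ∀ i, f i = f j → i = j := by
    intro i hi
    by_contra hij
    obtain ⟨k, l, hkl⟩ := hnonconst
    have : ∀ m, f m = f j := fun m => by
      by_cases hm : m = j
      · rw [hm]
      · rw [hj m i hm hij, hi]
    exact hkl ((this k).trans (this l).symm)
  refine ⟨u • φ j • b, Set.smul_mem_smul_set (S.mem_blkGrp.mp (hφZ j)).2, fun g hg hgb => ?_⟩
  obtain ⟨i, hi⟩ := hsurj _ (huB g hg _ (Set.smul_mem_smul_set (S.mem_blkGrp.mp (hφZ j)).2))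
  rw [hi]
  have hr := hrel g hg b (u • φ j • b)
  rw [hgb, hi] at hr
  rw [huniq i (by simp only [f, hr])]

theorem caseA_false (hcard : Fintype.card Ω = p ^ 2 + 1) : False := by
  classical
  have hb := S.blk.ab_ne.symm
  set M := kerBlk G a B with hM
  let B₂ : Set Ω := {y | y ≠ a ∧ ∀ g ∈ M, g • b = b → g • y = y}
  have hsame : ∀ y ∈ B₂, ∀ g ∈ M, g • y = y → g • b = b := by
    intro y hy g hg hgy
    obtain ⟨u, hu, rfl⟩ := S.trans y hy.1
    have hua := S.smul_a hu
    let H := M ⊓ stabilizer G b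
    let H' := H.map (MulAut.conj u).toMonoidHom
    have hHH' : H ≤ H' := by
      intro k hk
      refine ⟨u⁻¹ * k * u, Subgroup.mem_inf.mpr ⟨?_, ?_⟩, by simp [mul_assoc]⟩
      · have := S.conj_kerBlk (S.smul_a (inv_mem hu)) hk.1
        rwa [inv_inv] at this
      · show (u⁻¹ * k * u) • b = b
        rw [mul_smul, mul_smul, hy.2 k hk.1 hk.2, inv_smul_smul]
    have hcd : Nat.card H' = Nat.card H :=
      Subgroup.card_map_of_injective (MulAut.conj u).injective
    have heq := Subgroup.eq_of_le_of_card_ge hHH' hcd.le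
    have : g ∈ H' := by
      refine ⟨u⁻¹ * g * u, Subgroup.mem_inf.mpr ⟨?_, ?_⟩, by simp [mul_assoc]⟩
      · have := S.conj_kerBlk (S.smul_a (inv_mem hu)) hg
        rwa [inv_inv] at this
      · show (u⁻¹ * g * u) • b = b
        rw [mul_smul, mul_smul, hgy, inv_smul_smul]
    rw [← heq] at this
    exact this.2
  have huniq : ∀ y ∈ B₂, ∀ y' ∈ B₂, y' ∈ cls G a B a y → y' = y := by
    intro y hy y' hy' hmem
    obtain ⟨u, hu, rfl⟩ := S.trans y hy.1
    rw [S.cls_smul_b (S.smul_a hu)] at hmem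
    obtain ⟨w, hw, rfl⟩ := hmem
    suffices w = b by rw [this]
    refine caseA_fix_unique S hbad hw fun g hg hgb => ?_
    have hk := S.conj_kerBlk (S.smul_a hu) hg
    have h1 : (u * g * u⁻¹) • u • b = u • b := by rw [mul_smul, mul_smul, inv_smul_smul, hgb]
    have h2 := hy'.2 _ hk (hsame _ hy _ hk h1)
    simp only [mul_smul, inv_smul_smul] at h2
    exact smul_left_cancel u h2
  have hB₂ : IsBlk G p a b B₂ := by
    refine ⟨⟨hb, fun g _ h => h⟩, fun h => h.1 rfl, ?_, ?_⟩
    · set s := ({a}ᶜ : Set Ω).toFinite.toFinset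
      have himg : (B₂.toFinite.toFinset.image fun x => cls G a B a x) =
          s.image fun x => cls G a B a x := by
        apply subset_antisymm
        · refine Finset.image_subset_image fun y hy => ?_
          exact (Set.Finite.mem_toFinset _).mpr ((Set.Finite.mem_toFinset _).mp hy).1
        · intro K hK
          obtain ⟨x, hx, rfl⟩ := Finset.mem_image.mp hK
          have hxa : x ≠ a := (Set.Finite.mem_toFinset _).mp hx
          obtain ⟨y, hy, hfix⟩ := caseA_exists_fixed S hbad hxa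
          exact Finset.mem_image.mpr ⟨y,
            (Set.Finite.mem_toFinset _).mpr ⟨S.blk.ne hy, hfix⟩, S.blk.eq_of_mem hxa.symm hy⟩
      rw [Set.ncard_eq_toFinset_card _, ← S.blk.card_classes S.prime.pos hcard, ← himg,
        Finset.card_image_of_injOn]
      intro y hy y' hy' e
      have hy := (Set.Finite.mem_toFinset _).mp hy
      have hy' := (Set.Finite.mem_toFinset _).mp hy'
      simp only at e
      exact (huniq y hy y' hy' (e ▸ S.blk.mem_self hy'.1.symm)).symm
    · intro g hga x hx hgx y hy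
      refine ⟨fun e => hy.1 (smul_left_cancel g (e.trans hga.symm)), fun m hm hmb => ?_⟩
      have hm' : g⁻¹ * m * g ∈ M := by
        have := S.conj_kerBlk (g := g⁻¹) (by rw [inv_smul_eq_iff, hga]) hm
        rwa [inv_inv] at this
      have h1 : (g⁻¹ * m * g) • x = x := by
        rw [mul_smul, mul_smul, hgx.2 m hm hmb, inv_smul_smul]
      have h2 := hy.2 _ hm' (hsame x hx _ hm' h1)
      rwa [mul_smul, mul_smul, inv_smul_eq_iff] at h2
  refine no_grid hB₂ S.blk ?_ S.prime hcard {g | g ∈ M ∧ g • b = b} fun x => ?_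
  · ext y
    simp only [Set.mem_inter_iff, Set.mem_singleton_iff]
    constructor
    · rintro ⟨h1, h2⟩
      exact caseA_fix_unique S hbad h2 h1.2
    · rintro rfl
      exact ⟨⟨hb, fun g _ h => h⟩, S.blk.mem⟩
  · constructor
    · intro h
      by_cases hxa : x = a
      · exact Or.inl hxa
      · exact Or.inr ⟨hxa, fun g hg hgb => h g ⟨hg, hgb⟩⟩
    · rintro (rfl | hx) g ⟨hg, hgb⟩
      · exact (mem_kerBlk.mp hg).1
      · exact hx.2 g hg hgb

end Main

end DPrim23
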