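import Cfsg.Agent.DPrim23.CaseA

/-!
The Sylow subgroup is normal in the point stabiliser.
-/

set_option autoImplicit false
set_option linter.unusedSectionVars false

namespace DPrim23

open MulAction
open scoped Pointwise

variable {G Ω : Type*} [Group G] [MulAction G Ω] [Finite G] [Fintype Ω] [FaithfulSMul G Ω]
  [IsMultiplyPretransitive G Ω 2] {p : ℕ} {a b : Ω} {B : Set Ω} {P : Subgroup G}

/-- The orbit of a subgroup normalised by the point stabiliser is a block. -/
theorem Setup.blk_of_orbit (S : Setup G p a b B P) (N : Subgroup G) (hNa : N ≤ stabilizer G a)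
    (hn : ∀ g : G, g • a = a → ∀ n ∈ N, g * n * g⁻¹ ∈ N) (hcard : (orbit N b).ncard = p) :
    IsBlk G p a b (orbit N b) := by
  refine ⟨mem_orbit_self b, ?_, hcard, ?_⟩
  · rintro ⟨⟨n, hn'⟩, e : n • b = a⟩
    exact S.blk.ab_ne (smul_left_cancel n ((hNa hn').trans e.symm))
  · intro g hg x hx hgx y hy
    have h2 : ∀ n ∈ N, g⁻¹ * n * g ∈ N := fun n hn' => by
      have := hn g⁻¹ (by rw [inv_smul_eq_iff, hg]) n hn'
      rwa [inv_inv] at this
    have e := smul_orbit N g (hn g hg) h2 x
    rw [orbit_eq_iff.mpr hgx, orbit_eq_iff.mpr hx] at e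
    rw [e]
    exact Set.smul_mem_smul_set hy

/-- The cardinality of a block through `b` divides `p ^ 2`. -/
theorem Setup.block_dvd (S : Setup G p a b B P) {D : Set Ω} (hbD : b ∈ D) (haD : a ∉ D)
    (hblk : ∀ g : G, g • a = a → ∀ x ∈ D, g • x ∈ D → ∀ y ∈ D, g • y ∈ D) :
    D.ncard ∣ p ^ 2 := by
  have hD : orbit ↥(P ⊓ stabilizer G D) b = D := by
    apply subset_antisymm
    · rintro _ ⟨⟨u, hu, hu'⟩, rfl⟩
      have h2 := Set.smul_mem_smul_set (a := u) hbD
      rw [mem_stabilizer_iff.mp hu'] at h2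
      exact h2
    · intro x hx
      obtain ⟨u, hu, rfl⟩ := S.trans x (fun e => haD (e ▸ hx))
      refine ⟨⟨u, hu, ?_⟩, rfl⟩
      show u • D = D
      refine Set.eq_of_subset_of_ncard_le ?_ (by rw [Set.ncard_smul_set]) (Set.toFinite _)
      rintro _ ⟨y, hy, rfl⟩
      exact hblk u (S.smul_a hu) b hbD hx y hy
  have h1 := card_orbit_mul (P ⊓ stabilizer G D) b
  rw [hD] at h1
  rw [← S.cardP]
  exact Dvd.dvd.trans ⟨_, h1.symm⟩ (Subgroup.card_dvd_of_le inf_le_left)

/-- Two blocks through `b` coincide or meet only there. -/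
theorem Setup.inter_eq (S : Setup G p a b B P) {D : Set Ω} (hD : IsBlk G p a b D) :
    D = B ∨ B ∩ D = {b} := by
  have hp := S.prime
  have h := S.block_dvd (D := B ∩ D) ⟨S.blk.mem, hD.mem⟩ (fun h => hD.notMem h.2)
    (fun g hg x hx hgx y hy =>
      ⟨S.blk.block g hg x hx.1 hgx.1 y hy.1, hD.block g hg x hx.2 hgx.2 y hy.2⟩)
  obtain ⟨n, hn, he⟩ := (Nat.dvd_prime_pow hp).mp h
  have hle : (B ∩ D).ncard ≤ p :=
    (Set.ncard_le_ncard Set.inter_subset_left (Set.toFinite _)).trans S.blk.ncard.le
  rcases n with _ | _ | n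
  · right
    rw [pow_zero, Set.ncard_eq_one] at he
    obtain ⟨x, hx⟩ := he
    have hb : b ∈ B ∩ D := ⟨S.blk.mem, hD.mem⟩
    rw [hx] at hb ⊢
    rw [Set.mem_singleton_iff.mp hb]
  · left
    rw [pow_one] at he
    have h1 := Set.eq_of_subset_of_ncard_le (Set.inter_subset_left (s := B) (t := D))
      (by rw [he, S.blk.ncard]) (Set.toFinite _)
    have h2 := Set.eq_of_subset_of_ncard_le (Set.inter_subset_right (s := B) (t := D))
      (by rw [he, hD.ncard]) (Set.toFinite _)
    exact h2.symm.trans h1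
  · exfalso
    have := Nat.pow_le_pow_right hp.pos (show 2 ≤ n + 1 + 1 by omega)
    have h2 : p < p ^ 2 := by
      nth_rw 1 [← pow_one p]
      exact Nat.pow_lt_pow_right hp.one_lt (by omega)
    omega

theorem caseB_false (S : Setup G p a b B P) (hcard : Fintype.card Ω = p ^ 2 + 1)
    (hZn : ∀ g : G, g • a = a → ∀ z ∈ blkGrp B P, g * z * g⁻¹ ∈ blkGrp B P)
    (hPn : ¬ ∀ g : G, g • a = a → ∀ u ∈ P, g * u * g⁻¹ ∈ P) : False := by
  classical
  have := Fact.mk S.prime
  have hcard' : Nat.card Ω = p ^ 2 + 1 := Nat.card_eq_fintype_card.trans hcard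
  have hb := S.blk.ab_ne.symm
  set Z := blkGrp B P with hZ
  set C := stabilizer G a ⊓ Subgroup.centralizer (Z : Set G) with hC
  have hCmem : ∀ {c : G}, c ∈ C ↔ c • a = a ∧ ∀ z ∈ Z, z * c = c * z := fun {c} => by
    rw [hC, Subgroup.mem_inf, mem_stabilizer_iff, Subgroup.mem_centralizer_iff]
    rfl
  have hPC : P ≤ C := fun u hu => hCmem.mpr ⟨S.smul_a hu, fun z hz => S.comm z hz.1 u hu⟩
  have hinv : ∀ {g : G}, g • a = a → g⁻¹ • a = a := fun {g} hg => by rw [inv_smul_eq_iff, hg]
  have hCn : ∀ g : G, g • a = a → ∀ c ∈ C, g * c * g⁻¹ ∈ C := by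
    intro g hg c hc
    obtain ⟨hca, hcz⟩ := hCmem.mp hc
    refine hCmem.mpr ⟨by rw [mul_smul, mul_smul, hinv hg, hca, hg], fun z hz => ?_⟩
    have hw := hcz _ (hZn g⁻¹ (hinv hg) z hz)
    rw [inv_inv] at hw
    calc z * (g * c * g⁻¹) = g * ((g⁻¹ * z * g) * c) * g⁻¹ := by group
      _ = g * c * g⁻¹ * z := by rw [hw]; group
  set D := ⁅C, C⁆ with hD
  have hDC : D ≤ C := Subgroup.commutator_le.mpr fun x hx y hy =>
    by rw [commutatorElement_def]; exact mul_mem (mul_mem (mul_mem hx hy) (inv_mem hx)) (inv_mem hy)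
  have hDa : D ≤ stabilizer G a := fun d hd => (hCmem.mp (hDC hd)).1
  have hDn : ∀ g : G, g • a = a → ∀ d ∈ D, g * d * g⁻¹ ∈ D := by
    intro g hg d hd
    have hmap : C.map (MulAut.conj g).toMonoidHom = C := by
      apply le_antisymm
      · rintro _ ⟨c, hc, rfl⟩
        exact hCn g hg c hc
      · intro c hc
        exact ⟨g⁻¹ * c * g, by simpa using hCn g⁻¹ (hinv hg) c hc, by simp [mul_assoc]⟩
    have : D.map (MulAut.conj g).toMonoidHom = D := by
      rw [hD, Subgroup.map_commutator, hmap]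
    rw [← this]
    exact ⟨d, hd, rfl⟩
  -- transfer
  have hZD : ∀ z ∈ Z, z ∈ D → z = 1 := by
    intro z hz hzD
    let H := P.subgroupOf C
    let _ : CommGroup H :=
      { (inferInstance : Group H) with
        mul_comm := fun x y => Subtype.ext (Subtype.ext (S.comm _ x.2 _ y.2)) }
    let z' : C := ⟨z, hPC hz.1⟩
    have hcen : ∀ g : C, z' * g = g * z' := fun g =>
      Subtype.ext ((hCmem.mp g.2).2 z hz)
    have hV := MonoidHom.transfer_eq_pow (MonoidHom.id H) z' fun k g₀ _ => by
      rw [mul_assoc, (show Commute z' g₀ from hcen g₀).pow_left k |>.eq, inv_mul_cancel_left]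
    have hker : z' ∈ (MonoidHom.transfer (MonoidHom.id H)).ker := by
      apply Abelianization.commutator_subset_ker
      have h2 : z ∈ (commutator C).map C.subtype := by
        rw [commutator_def, Subgroup.map_commutator, ← MonoidHom.range_eq_map,
          Subgroup.range_subtype]
        exact hzD
      obtain ⟨w, hw, e⟩ := h2
      have : w = z' := Subtype.ext e
      exact this ▸ hw
    rw [MonoidHom.mem_ker, hV] at hker
    have hpow : z ^ H.index = 1 := congrArg (fun x : H => ((x : C) : G)) hker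
    have hidx : ¬ p ∣ H.index := by
      intro hd
      have h1 := Subgroup.index_mul_card H
      have hcH : Nat.card H = p ^ 2 :=
        (Nat.card_congr (Subgroup.subgroupOfEquivOfLe hPC).toEquiv).trans S.cardP
      rw [hcH] at h1
      have h2 := Subgroup.card_dvd_of_le (inf_le_left : C ≤ stabilizer G a)
      rw [card_stab hcard S.blk.ab_ne, ← h1, mul_comm] at h2
      have h3 := Nat.dvd_of_mul_dvd_mul_left (pow_pos S.prime.pos 2) h2
      exact S.cop a b S.blk.ab_ne (hd.trans h3)
    have hdp : orderOf z ∣ p := by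
      have h := orderOf_dvd_natCard (⟨z, hz⟩ : blkGrp B P)
      rwa [Subgroup.orderOf_mk, S.card_blkGrp] at h
    rcases (Nat.dvd_prime S.prime).mp hdp with h | h
    · exact orderOf_eq_one_iff.mp h
    · exact absurd (h ▸ orderOf_dvd_of_pow_eq_one hpow) hidx
  have hDM : ∀ d ∈ D, d ∈ kerBlk G a B → d = 1 := fun d hd hdM =>
    hZD d (S.centralizer_blkGrp_kerBlk hdM fun z hz => ((hCmem.mp (hDC hd)).2 z hz).symm) hd
  -- the orbit of the commutator subgroup
  have hbl : ∀ g : G, g • a = a → ∀ x ∈ orbit D b, g • x ∈ orbit D b →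
      ∀ y ∈ orbit D b, g • y ∈ orbit D b := by
    intro g hg x hx hgx y hy
    have h2 : ∀ n ∈ D, g⁻¹ * n * g ∈ D := fun n hn => by
      have := hDn g⁻¹ (hinv hg) n hn
      rwa [inv_inv] at this
    have e := smul_orbit D g (hDn g hg) h2 x
    rw [orbit_eq_iff.mpr hgx, orbit_eq_iff.mpr hx] at e
    rw [e]
    exact Set.smul_mem_smul_set hy
  have haO : a ∉ orbit D b := by
    rintro ⟨⟨n, hn⟩, e : n • b = a⟩
    exact S.blk.ab_ne (smul_left_cancel n ((hDa hn).trans e.symm))
  obtain ⟨k, hk, hkc⟩ := (Nat.dvd_prime_pow S.prime).mp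
    (S.block_dvd (mem_orbit_self b) haO hbl)
  have hDorbit : ∀ {u : G}, u ∈ P → orbit D (u • b) = u • orbit D b := fun {u} hu =>
    smul_orbit D u (hDn u (S.smul_a hu)) (fun n hn => by
      have := hDn u⁻¹ (hinv (S.smul_a hu)) n hn
      rwa [inv_inv] at this) b
  rcases k with _ | _ | k
  · -- commutator subgroup trivial
    rw [pow_zero, Set.ncard_eq_one] at hkc
    obtain ⟨y, hy⟩ := hkc
    have hyb : b = y := by
      have : b ∈ orbit D b := mem_orbit_self b
      rwa [hy] at this
    have hDbot : ∀ d ∈ D, d = 1 := by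
      intro d hd
      apply FaithfulSMul.eq_of_smul_eq_smul (α := Ω)
      intro x
      rw [one_smul]
      by_cases hx : x = a
      · rw [hx]; exact hDa hd
      obtain ⟨u, hu, rfl⟩ := S.trans x hx
      have : d • u • b ∈ u • orbit D b := hDorbit hu ▸ ⟨⟨d, hd⟩, rfl⟩
      rw [hy, Set.smul_set_singleton, ← hyb] at this
      exact this
    apply hPn
    intro g hg u hu
    let R := P.map (MulAut.conj g).toMonoidHom
    have hRC : R ≤ C := by
      rintro _ ⟨v, hv, rfl⟩
      exact hCn g hg v (hPC hv)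
    have hCcomm : ∀ x ∈ C, ∀ y ∈ C, x * y = y * x := fun x hx y hy =>
      commutatorElement_eq_one_iff_mul_comm.mp
        (hDbot _ (Subgroup.commutator_mem_commutator hx hy))
    refine S.le_P hcard' (hRC.trans inf_le_left) (S.isPGroup.map _) (Or.inr ?_)
      ⟨u, hu, rfl⟩
    intro v hv
    refine Subgroup.mem_normalizer_fintype fun w hw => ?_
    rw [hCcomm v (hPC hv) w (hRC hw), mul_inv_cancel_right]
    exact hw
  · -- the main case
    rw [pow_one] at hkc
    have hB₂ := S.blk_of_orbit D hDa hDn hkc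
    rcases S.inter_eq hB₂ with he | hi
    · have hle : ∀ d ∈ D, d = 1 := fun d hd => hDM d hd <| S.mem_kerBlk_of (hDa hd) fun x hx => by
        obtain ⟨u, hu, rfl⟩ := S.trans x hx
        rw [S.cls_smul_b (S.smul_a hu), ← he, ← hDorbit hu]
        exact ⟨⟨d, hd⟩, rfl⟩
      have h1 : orbit D b ⊆ {b} := by
        rintro _ ⟨⟨d, hd⟩, rfl⟩
        show d • b = b
        rw [hle d hd, one_smul]
      have := Set.ncard_le_ncard h1
      rw [hkc, Set.ncard_singleton] at this
      have := S.prime.one_lt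
      omega
    set W := D ⊓ stabilizer G b with hW
    have hcD : Nat.card D = p * Nat.card W := by
      rw [← card_orbit_mul D b, hkc]
    have hfixB : ∀ w ∈ W, ∀ y ∈ B, w • y = y := by
      intro w hw y hy
      obtain ⟨z, hz, rfl⟩ := S.exists_blkGrp hy
      rw [smul_smul, ← (hCmem.mp (hDC hw.1)).2 z hz, mul_smul]
      exact congrArg (z • ·) hw.2
    have hWne : ∃ w ∈ W, w ≠ 1 := by
      by_contra hcon
      push Not at hcon
      have hc1 : Nat.card W = 1 :=
        Subgroup.card_eq_one.mpr ((Subgroup.eq_bot_iff_forall _).mpr hcon)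
      rw [hc1, mul_one] at hcD
      have hDp : IsPGroup p D := IsPGroup.of_card (n := 1) (by rw [pow_one]; exact hcD)
      have hDP : D ≤ P := S.le_P hcard' hDa hDp (Or.inr fun v hv =>
        Subgroup.mem_normalizer_fintype fun w hw => hDn v (S.smul_a hv) w hw)
      apply hPn
      intro g hg u hu
      -- `P` is generated by `Z` and `D`
      have hsup : Z ⊔ D = P := by
        apply Subgroup.eq_of_le_of_card_ge (sup_le inf_le_left hDP)
        obtain ⟨m, hm, hmc⟩ := (Nat.dvd_prime_pow S.prime).mp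
          (S.cardP ▸ Subgroup.card_dvd_of_le (sup_le (show Z ≤ P from inf_le_left) hDP))
        rcases Nat.lt_or_ge m 2 with hm2 | hm2
        · exfalso
          have hle : Nat.card ↥(Z ⊔ D) ≤ Nat.card Z := by
            rw [show Nat.card ↥(Z ⊔ D) = p ^ m from hmc, S.card_blkGrp]
            calc p ^ m ≤ p ^ 1 := Nat.pow_le_pow_right S.prime.pos (by omega)
              _ = p := pow_one p
          have hDZ : D ≤ Z :=
            le_sup_right.trans (Subgroup.eq_of_le_of_card_ge le_sup_left hle).ge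
          have hDb : D = ⊥ := (Subgroup.eq_bot_iff_forall _).mpr fun d hd => hZD d (hDZ hd) hd
          rw [hDb, Subgroup.card_bot] at hcD
          exact S.prime.one_lt.ne hcD
        · rw [S.cardP]
          refine le_of_le_of_eq ?_ hmc.symm
          exact Nat.pow_le_pow_right S.prime.pos hm2
      have : (Z ⊔ D).map (MulAut.conj g).toMonoidHom ≤ Z ⊔ D := by
        rw [Subgroup.map_sup]
        exact sup_le_sup (by rintro _ ⟨z, hz, rfl⟩; exact hZn g hg z hz)
          (by rintro _ ⟨d, hd, rfl⟩; exact hDn g hg d hd)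
      rw [hsup] at this
      exact this ⟨u, hu, rfl⟩
    refine no_grid S.blk hB₂ hi S.prime hcard (W : Set G) fun x => ⟨fun h => ?_, ?_⟩
    · by_contra hxl
      simp only [Set.mem_insert_iff, not_or] at hxl
      obtain ⟨z, hz1, hz2⟩ := exists_cls_inter S.blk hB₂ hi hcard (Ne.symm hxl.1) S.blk.ab_ne
      have hzW : ∀ w ∈ W, w • z = z := by
        intro w hw
        apply cls_inter_unique S.blk hB₂ hi (S.blk.ne hz1).symm
        · rw [S.blk.eq_of_mem (Ne.symm hxl.1) hz1]
          have := Set.smul_mem_smul_set (a := w) hz1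
          rwa [← cls_equiv, hDa hw.1, h w hw] at this
        · rw [hB₂.eq_of_mem S.blk.ab_ne hz2]
          have := Set.smul_mem_smul_set (a := w) hz2
          rwa [← cls_equiv, hDa hw.1, hw.2] at this
      rw [hB₂.cls_a] at hz2
      have hzb : z ≠ b := by
        rintro rfl
        have := S.blk.symm_mem (Ne.symm hxl.1) hz1
        rw [S.blk.cls_a] at this
        exact hxl.2 this
      -- every point of the orbit is fixed
      set N := D ⊓ Subgroup.normalizer (W : Set G)
      have hNsub : orbit N b ⊆ orbit D b := by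
        rintro _ ⟨⟨n, hn⟩, rfl⟩
        exact ⟨⟨n, hn.1⟩, rfl⟩
      have hzN : z ∈ orbit N b := by
        obtain ⟨⟨d, hd⟩, rfl⟩ := hz2
        refine ⟨⟨d, Subgroup.mem_inf.mpr ⟨hd, ?_⟩⟩, rfl⟩
        have : d⁻¹ ∈ Subgroup.normalizer (W : Set G) := by
          apply Subgroup.mem_normalizer_fintype
          intro w hw
          show d⁻¹ * w * d⁻¹⁻¹ ∈ W
          rw [inv_inv]
          refine Subgroup.mem_inf.mpr ⟨mul_mem (mul_mem (inv_mem hd) hw.1) hd, ?_⟩
          show (d⁻¹ * w * d) • b = b
          rw [mul_smul, mul_smul, inv_smul_eq_iff]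
          exact hzW w hw
        simpa using inv_mem this
      have hNall : orbit N b = orbit D b := by
        have hWN : N ⊓ stabilizer G b = W :=
          le_antisymm (inf_le_inf_right _ inf_le_left)
            (le_inf (le_inf inf_le_left Subgroup.le_normalizer) inf_le_right)
        have h1 := card_orbit_mul N b
        rw [hWN] at h1
        have h2 : Nat.card N ∣ p * Nat.card W := hcD ▸ Subgroup.card_dvd_of_le inf_le_left
        rw [← h1] at h2
        rcases (Nat.dvd_prime S.prime).mp (Nat.dvd_of_mul_dvd_mul_right Nat.card_pos h2) with h3 | h3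
        · exfalso
          obtain ⟨y, hy⟩ := Set.ncard_eq_one.mp h3
          have m1 : b ∈ orbit N b := mem_orbit_self b
          rw [hy] at hzN m1
          exact hzb (hzN.trans m1.symm)
        · exact Set.eq_of_subset_of_ncard_le hNsub (by rw [h3, hkc]) (Set.toFinite _)
      obtain ⟨w, hw, hw1⟩ := hWne
      apply hw1
      refine hDM w hw.1 (S.mem_kerBlk_of (hDa hw.1) fun y hy => ?_)
      obtain ⟨t, ht1, ht2⟩ := exists_cls_inter S.blk hB₂ hi hcard (Ne.symm hy) S.blk.ab_ne
      rw [hB₂.cls_a, ← hNall] at ht2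
      obtain ⟨⟨n, hn⟩, rfl⟩ := ht2
      have hwt : w • n • b = n • b := by
        have := (Subgroup.mem_normalizer_iff''.mp hn.2 w).mp hw
        calc w • n • b = n • ((n⁻¹ * w * n) • b) := by simp [mul_smul]
          _ = n • b := by rw [show (n⁻¹ * w * n) • b = b from this.2]
      have hm := Set.smul_mem_smul_set (a := w) (S.blk.symm_mem (Ne.symm hy) ht1)
      rw [← cls_equiv, hDa hw.1] at hm
      show w • y ∈ _
      rw [← S.blk.eq_of_mem (Ne.symm hy) ht1]
      have e : w • (⟨n, hn⟩ : N) • b = (⟨n, hn⟩ : N) • b := hwt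
      rwa [e] at hm
    · rintro (rfl | hx) w hw
      · exact hDa hw.1
      · exact hfixB w hw x hx
  · -- too large
    have hk2 : k = 0 := by omega
    subst hk2
    have h1 : p ^ 2 ∣ Nat.card D := Dvd.intro _ (by rw [← card_orbit_mul D b, hkc])
    obtain ⟨R0, hR0⟩ := Sylow.exists_subgroup_card_pow_prime (G := D) p h1
    let R := R0.map D.subtype
    have hRc : Nat.card R = p ^ 2 := (Subgroup.card_subtype _ _).trans hR0
    have hRD : R ≤ D := Subgroup.map_subtype_le _
    have hRp : IsPGroup p R := IsPGroup.of_card hRc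
    have hZp : IsPGroup p Z := S.isPGroup.to_le inf_le_left
    have hsup : IsPGroup p ↥(R ⊔ Z) := hRp.to_sup_of_normal_right' hZp fun r hr =>
      Subgroup.mem_normalizer_fintype fun z hz => hZn r (hDa (hRD hr)) z hz
    have hle := Nat.le_of_dvd (pow_pos S.prime.pos 2) (S.card_pgroup_dvd hcard'
      (sup_le (hRD.trans hDa) ((inf_le_left : Z ≤ P).trans S.le)) hsup)
    rw [← hRc] at hle
    have hZR := Subgroup.eq_of_le_of_card_ge le_sup_left hle
    have hZbot : Z = ⊥ := (Subgroup.eq_bot_iff_forall _).mpr fun z hz =>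
      hZD z hz (hRD (hZR ▸ Subgroup.mem_sup_right hz))
    have := S.card_blkGrp
    rw [← hZ, hZbot, Subgroup.card_bot] at this
    exact S.prime.one_lt.ne this

end DPrim23
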