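import Cfsg.Agent.DPrim23.Normal
import Cfsg.Agent.Lib.LinearGroup.Card
import Cfsg.Agent.S0742
import Cfsg.Agent.S0885

/-!
A doubly transitive group of degree `p^2+1` is doubly primitive, apart from the group of order 20.
-/

set_option autoImplicit false
set_option linter.unusedSectionVars false

namespace DPrim23

open MulAction
open scoped Pointwise

variable {G Ω : Type*} [Group G] [MulAction G Ω] [Finite G] [Fintype Ω] [FaithfulSMul G Ω]
  [IsMultiplyPretransitive G Ω 2] {p : ℕ} {a b : Ω} {B : Set Ω} {P : Subgroup G}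

theorem imprimitive_small (hp : p.Prime) (hcard : Fintype.card Ω = p ^ 2 + 1)
    (hB : IsBlk G p a b B) : p = 2 ∧ Nat.card G = 20 := by
  classical
  have := Fact.mk hp
  obtain ⟨P, S⟩ := exists_setup hp hB hcard
  have hab := hB.ab_ne
  have hp2 := hp.two_le
  have hsq : 2 * p ≤ p ^ 2 := by rw [pow_two]; exact Nat.mul_le_mul_right p hp2
  have hZn : ∀ g : G, g • a = a → ∀ z ∈ blkGrp B P, g * z * g⁻¹ ∈ blkGrp B P := by
    intro g hg z hz
    by_contra hbad
    exact caseA_false S (fun h => hbad (S.normal_of_kerBlk h hg hz)) hcard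
  have hPn : ∀ g : G, g • a = a → ∀ u ∈ P, g * u * g⁻¹ ∈ P := by
    by_contra h
    exact caseB_false S hcard hZn h
  set T := stabilizer G a ⊓ stabilizer G b with hT
  have hsemi : ∀ g ∈ T, ∀ x, x ≠ a → x ≠ b → g • x = x → g = 1 := fun g hg x h1 h2 h3 =>
    caseC_semiregular S hcard hPn hZn hg.1 hg.2 h1 h2 h3
  obtain ⟨y, hy, hyb⟩ := Set.exists_ne_of_one_lt_ncard (hB.ncard.symm ▸ hp.one_lt) b
  have hya : y ≠ a := fun e => hB.notMem (e ▸ hy)
  have hd : Nat.card T ≤ p - 1 := by
    rw [← hB.ncard, ← Set.ncard_sdiff_singleton_of_mem hB.mem, ← Nat.card_coe_set_eq]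
    refine Nat.card_le_card_of_injective (fun g : T => (⟨(g : G) • y, ?_, ?_⟩ :
      ↥(B \ {b}))) ?_
    · exact hB.block g g.2.1 b hB.mem ((show (g : G) • b = b from g.2.2).symm ▸ hB.mem) y hy
    · exact fun e : (g : G) • y = b =>
        hyb (smul_left_cancel (g : G) (e.trans (show (g : G) • b = b from g.2.2).symm))
    · intro g k e
      have e' : (g : G) • y = (k : G) • y := congrArg Subtype.val e
      apply Subtype.ext
      exact inv_mul_eq_one.mp (hsemi _ (mul_mem (inv_mem g.2) k.2) y hya hyb
        (by rw [mul_smul, ← e', inv_smul_smul]))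
  have : IsPretransitive G Ω := MulAction.isPretransitive_of_is_two_pretransitive
  have hcG : Nat.card G = (p ^ 2 + 1) * (p ^ 2 * Nat.card T) := by
    rw [← Subgroup.index_mul_card (stabilizer G a), index_stabilizer_of_transitive G a,
      Nat.card_eq_fintype_card, hcard, card_stab hcard hab]
  rcases Nat.lt_or_ge 1 (Nat.card T) with hd1 | hd1
  · -- Zassenhaus groups
    exfalso
    have hodd : p % 2 = 1 := hp.eq_two_or_odd.resolve_left (by omega)
    have hZ : Cfsg.IsZassenhausGroup G Ω := by
      refine ⟨inferInstance, inferInstance, ?_, ?_, ?_⟩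
      · intro g x y z hxy hyz hxz hgx hgy hgz
        obtain ⟨k, hk1, hk2⟩ := exists_pair G hxy hab
        have := hsemi (k * g * k⁻¹) ?_ (k • z) ?_ ?_ ?_
        · rwa [conj_eq_one_iff] at this
        · refine Subgroup.mem_inf.mpr ⟨?_, ?_⟩
          · show (k * g * k⁻¹) • a = a
            rw [← hk1, mul_smul, mul_smul, inv_smul_smul, hgx]
          · show (k * g * k⁻¹) • b = b
            rw [← hk2, mul_smul, mul_smul, inv_smul_smul, hgy]
        · rw [← hk1]; exact fun e => hxz (smul_left_cancel k e).symm
        · rw [← hk2]; exact fun e => hyz (smul_left_cancel k e).symm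
        · rw [mul_smul, mul_smul, inv_smul_smul, hgz]
      · obtain ⟨g, hg, hg1⟩ := T.bot_or_exists_ne_one.resolve_left (fun e => by
          rw [e, Subgroup.card_bot] at hd1
          omega)
        exact ⟨g, hg1, a, b, hab, hg.1, hg.2⟩
      · intro N hN hNt
        by_contra hreg
        push Not at hreg
        have hfree : ∀ n ∈ N, ∀ x : Ω, n • x = x → n = 1 := fun n hn x hx => by
          have := (Subgroup.eq_bot_iff_forall _).mp (hreg x) ⟨n, hn⟩ hx
          exact congrArg Subtype.val this
        have hcN : Nat.card N = p ^ 2 + 1 := by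
          rw [← Subgroup.index_mul_card (stabilizer N a), index_stabilizer_of_transitive N a,
            hreg a, Subgroup.card_bot, mul_one, Nat.card_eq_fintype_card, hcard]
        obtain ⟨t, ht⟩ := exists_prime_orderOf_dvd_card' (G := N) 2 (by
          rw [hcN, Nat.dvd_iff_mod_eq_zero, Nat.add_mod, Nat.pow_mod, hodd])
        have ht2 : (t : G) * (t : G) = 1 := by
          have := pow_orderOf_eq_one t
          rw [ht, pow_two] at this
          exact congrArg Subtype.val this
        have hta : (t : G) • a ≠ a := fun e => by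
          have := hfree _ t.2 a e
          rw [OneMemClass.coe_eq_one] at this
          rw [this, orderOf_one] at ht
          exact absurd ht (by omega)
        have hexp : ∀ n : N, n ^ 2 = 1 := by
          intro n
          by_cases hna : (n : G) • a = a
          · have h1 := hfree _ n.2 a hna
            rw [OneMemClass.coe_eq_one] at h1
            rw [h1, one_pow]
          obtain ⟨g, hg1, hg2⟩ := exists_pair G (Ne.symm hta) (Ne.symm hna)
          have hc : g * t * g⁻¹ ∈ N := hN.conj_mem _ t.2 g
          have he : (g * t * g⁻¹) • a = (n : G) • a := by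
            rw [mul_smul, mul_smul, show g⁻¹ • a = a by rw [inv_smul_eq_iff, hg1], hg2]
          have h1 := hfree _ (mul_mem (inv_mem n.2) hc) a
            (by rw [mul_smul, he, inv_smul_smul])
          rw [inv_mul_eq_one] at h1
          apply Subtype.ext
          rw [Subgroup.coe_pow, h1, pow_two]
          calc (g * t * g⁻¹) * (g * t * g⁻¹) = g * ((t : G) * t) * g⁻¹ := by group
            _ = 1 := by rw [ht2]; group
        have hN2 : IsPGroup 2 N := fun n => ⟨1, by rw [pow_one]; exact hexp n⟩
        obtain ⟨m, hm⟩ := IsPGroup.iff_card.mp hN2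
        rw [hcN] at hm
        rcases m with _ | _ | m
        · rw [pow_zero] at hm
          omega
        · rw [pow_one] at hm
          omega
        · have h4 : (p ^ 2 + 1) % 4 = 0 := by
            rw [hm, pow_succ, pow_succ, mul_assoc]
            exact Nat.mul_mod_left _ _
          rw [Nat.add_mod, Nat.pow_mod] at h4
          have : p % 4 = 1 ∨ p % 4 = 3 := by omega
          rcases this with h | h <;> rw [h] at h4 <;> simp at h4
    rcases Nat.even_or_odd (Nat.card T) with he | ho
    · obtain ⟨q, f, K, _, _, hq, -, hK, hKc, ⟨iso⟩⟩ :=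
        Cfsg.Agent.S0742.result hZ hab he (by
          rw [hcard, ← hT]
          omega)
      have hKp : Nat.card K = p ^ 2 := by
        rw [Nat.card_eq_fintype_card, hK]
        omega
      have h1 := Cfsg.Agent.LinearGroup.gcd_mul_card_PSL_two (F := K)
      rw [hKp, ← Nat.card_congr iso.toEquiv, hcG] at h1
      have hg : Nat.gcd 2 (p ^ 2 - 1) = 2 := by
        apply Nat.gcd_eq_left
        have : (p ^ 2) % 2 = 1 := by rw [Nat.pow_mod, hodd]
        omega
      rw [hg] at h1
      have h2 : (p ^ 2) ^ 2 - 1 = (p ^ 2 + 1) * (p ^ 2 - 1) := by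
        rw [← Nat.sq_sub_sq]
      rw [h2] at h1
      have h3 : (p ^ 2 + 1) * p ^ 2 * (2 * Nat.card T) = (p ^ 2 + 1) * p ^ 2 * (p ^ 2 - 1) := by
        linarith
      have h4 := Nat.eq_of_mul_eq_mul_left (by positivity) h3
      omega
    · rcases Cfsg.Agent.S0885.result hZ hab (p ^ 2) (Nat.card T) hcard rfl ho P S.le
        (by rw [S.cardP, hcard]) (fun u hu hu1 c hc => by
          by_contra hca
          exact hu1 (S.free u hu c hca hc)) with h | ⟨h, -⟩
      · omega
      · obtain ⟨m, hm⟩ := IsPGroup.iff_card.mp h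
        rw [S.cardP] at hm
        rcases m with _ | m
        · rw [pow_zero] at hm
          omega
        · have h1 : (p ^ 2) % 2 = 1 := by rw [Nat.pow_mod, hodd]
          rw [hm, pow_succ, Nat.mul_mod_left] at h1
          exact absurd h1 (by omega)
  · -- two point stabilisers are trivial
    have hT1 : Nat.card T = 1 := le_antisymm hd1 Nat.card_pos
    rw [hT1, mul_one] at hcG
    rcases hp.eq_two_or_odd with rfl | hodd
    · exact ⟨rfl, by rw [hcG]; norm_num⟩
    exfalso
    -- an odd half of the order
    have hev : 2 ∣ Nat.card G := by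
      rw [hcG]
      exact dvd_mul_of_dvd_left (by rw [Nat.dvd_iff_mod_eq_zero, Nat.add_mod, Nat.pow_mod, hodd]) _
    obtain ⟨t, ht⟩ := exists_prime_orderOf_dvd_card' (G := G) 2 hev
    have hcz : Nat.card (Subgroup.zpowers t) = 2 := by rw [Nat.card_zpowers, ht]
    have hidx : ¬ 2 ∣ (Subgroup.zpowers t).index := by
      intro h2
      have h4 := mul_dvd_mul h2 (dvd_refl 2)
      nth_rw 3 [← hcz] at h4
      rw [Subgroup.index_mul_card, hcG] at h4
      have h5 : Nat.Coprime 4 (p ^ 2) :=
        (Nat.Coprime.pow_right 2 (Nat.Coprime.pow_left 2 ((Nat.coprime_primes Nat.prime_two hp).mpr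
          (by omega))) : Nat.Coprime (2 ^ 2) (p ^ 2))
      have h6 : 4 ∣ p ^ 2 + 1 := h5.dvd_of_dvd_mul_right h4
      rw [Nat.dvd_iff_mod_eq_zero, Nat.add_mod, Nat.pow_mod] at h6
      have : p % 4 = 1 ∨ p % 4 = 3 := by omega
      rcases this with h | h <;> rw [h] at h6 <;> simp at h6
    let Q : Sylow 2 G :=
      IsPGroup.toSylow (IsPGroup.of_card (p := 2) (n := 1) (by rw [hcz, pow_one])) hidx
    have hle : Subgroup.normalizer ((Q : Subgroup G) : Set G) ≤
        Subgroup.centralizer ((Q : Subgroup G) : Set G) := by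
      intro e he
      rw [Subgroup.mem_centralizer_iff]
      have h2 : ∀ z ∈ Subgroup.zpowers t, z = 1 ∨ z = t := by
        intro z hz
        obtain ⟨i, hi, rfl⟩ := Finset.mem_image.mp
          ((isOfFinOrder_of_finite t).mem_zpowers_iff_mem_range_orderOf.mp hz)
        rw [ht, Finset.mem_range] at hi
        interval_cases i <;> simp
      intro z hz
      rcases h2 z hz with rfl | rfl
      · rw [one_mul, mul_one]
      · rcases h2 _ ((Subgroup.mem_normalizer_iff.mp he z).mp (Subgroup.mem_zpowers z)) with h | h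
        · rw [conj_eq_one_iff] at h
          rw [h, orderOf_one] at ht
          exact absurd ht (by omega)
        · exact (mul_inv_eq_iff_eq_mul.mp h).symm
    set f := MonoidHom.transferSylow Q hle
    have hc := MonoidHom.ker_transferSylow_isComplement' Q hle
    have hker : Nat.card f.ker * 2 = Nat.card G := by
      rw [← hc.card_mul_card, show Nat.card ↥(Q : Subgroup G) = 2 from hcz]
    have hmem : ∀ x : Ω, ∀ g ∈ stabilizer G x, g ∈ f.ker := by
      intro x g hg
      rw [MonoidHom.mem_ker]
      have hsx : ¬ 2 ∣ Nat.card (stabilizer G x) := by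
        have hi := Subgroup.index_mul_card (stabilizer G x)
        rw [index_stabilizer_of_transitive G x, Nat.card_eq_fintype_card, hcard, hcG] at hi
        rw [Nat.eq_of_mul_eq_mul_left (Nat.succ_pos _) hi]
        have : (p ^ 2) % 2 = 1 := by rw [Nat.pow_mod, hodd]
        omega
      have h1 : orderOf (f g) ∣ 2 :=
        (orderOf_dvd_natCard (G := (Q : Subgroup G)) _).trans hcz.dvd
      have h2 : orderOf (f g) ∣ Nat.card (stabilizer G x) := by
        refine (orderOf_map_dvd f g).trans ?_
        rw [← Subgroup.orderOf_mk (H := stabilizer G x) g hg]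
        exact orderOf_dvd_natCard _
      rcases (Nat.dvd_prime Nat.prime_two).mp h1 with h | h
      · exact orderOf_eq_one_iff.mp h
      · exact absurd (h ▸ h2) hsx
    have hfix : ∀ (g : G) (x z : Ω), x ≠ z → g • x = x → g • z = z → g = 1 := by
      intro g x z hxz hx hz
      obtain ⟨k, hk1, hk2⟩ := exists_pair G hxz hab
      have : k * g * k⁻¹ ∈ T := Subgroup.mem_inf.mpr ⟨by
        show (k * g * k⁻¹) • a = a
        rw [← hk1, mul_smul, mul_smul, inv_smul_smul, hx], by
        show (k * g * k⁻¹) • b = b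
        rw [← hk2, mul_smul, mul_smul, inv_smul_smul, hz]⟩
      have h1 := (Subgroup.eq_bot_iff_forall _).mp (Subgroup.card_eq_one.mp hT1) _ this
      rwa [conj_eq_one_iff] at h1
    have hsig : (p ^ 2 + 1) * (p ^ 2 - 1) ≤ Nat.card f.ker := by
      have hfib : ∀ x : Ω, Nat.card {g : stabilizer G x // g ≠ 1} = p ^ 2 - 1 := by
        intro x
        have hi := Subgroup.index_mul_card (stabilizer G x)
        rw [index_stabilizer_of_transitive G x, Nat.card_eq_fintype_card, hcard, hcG] at hi
        have := Fintype.ofFinite (stabilizer G x)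
        rw [Nat.card_eq_fintype_card, Fintype.card_subtype_compl, Fintype.card_subtype_eq,
          ← Nat.card_eq_fintype_card, Nat.eq_of_mul_eq_mul_left (Nat.succ_pos _) hi]
      have hcs : Nat.card (Σ x : Ω, {g : stabilizer G x // g ≠ 1}) =
          (p ^ 2 + 1) * (p ^ 2 - 1) := by
        rw [Nat.card_sigma, Finset.sum_congr rfl (fun x _ => hfib x), Finset.sum_const,
          Finset.card_univ, hcard, smul_eq_mul]
      rw [← hcs]
      refine Nat.card_le_card_of_injective (fun s => ⟨(s.2.1 : G), hmem s.1 _ s.2.1.2⟩) ?_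
      rintro ⟨x, g, hg⟩ ⟨z, k, hk⟩ e
      have e' : (g : G) = (k : G) := congrArg Subtype.val e
      by_cases hxz : x = z
      · subst hxz
        obtain rfl : g = k := Subtype.ext e'
        rfl
      · exfalso
        apply hg
        apply Subtype.ext
        exact hfix _ x z hxz g.2 (e' ▸ (k.2 : (k : G) • z = z))
    rw [hcG] at hker
    have h1 : (p ^ 2 + 1) * (2 * (p ^ 2 - 1)) ≤ (p ^ 2 + 1) * p ^ 2 := by
      rw [← hker]
      calc (p ^ 2 + 1) * (2 * (p ^ 2 - 1)) = (p ^ 2 + 1) * (p ^ 2 - 1) * 2 := by ring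
        _ ≤ Nat.card f.ker * 2 := Nat.mul_le_mul_right 2 hsig
    have h2 := Nat.le_of_mul_le_mul_left h1 (by positivity)
    have : 3 * 3 ≤ p ^ 2 := by rw [pow_two]; exact Nat.mul_le_mul (by omega) (by omega)
    omega

theorem two_trans_prime_sq_succ (hp : p.Prime) (hcard : Fintype.card Ω = p ^ 2 + 1) (a : Ω) :
    IsPreprimitive ↥(stabilizer G a) ↥(SubMulAction.ofStabilizer G a) ∨
      (p = 2 ∧ Nat.card G = 20) := by
  classical
  by_contra hcon
  rw [not_or] at hcon
  obtain ⟨h1, h2⟩ := hcon
  apply h2
  have hne : ∀ x : SubMulAction.ofStabilizer G a, (x : Ω) ≠ a := fun x => x.2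
  have hpre : IsPretransitive (stabilizer G a) (SubMulAction.ofStabilizer G a) := ⟨fun x y => by
    obtain ⟨g, hg1, hg2⟩ := exists_pair G (hne x).symm (hne y).symm
    exact ⟨⟨g, hg1⟩, Subtype.ext hg2⟩⟩
  obtain ⟨D, hD, hDt⟩ : ∃ D : Set (SubMulAction.ofStabilizer G a),
      IsBlock (stabilizer G a) D ∧ ¬ IsTrivialBlock D := by
    by_contra hc
    push Not at hc
    exact h1 { isTrivialBlock_of_isBlock := fun {D} hD => hc D hD }
  rw [IsTrivialBlock, not_or] at hDt
  obtain ⟨b, hb⟩ : D.Nonempty := by
    rw [Set.nonempty_iff_ne_empty]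
    rintro rfl
    exact hDt.1 Set.subsingleton_empty
  have hdvd := hD.ncard_dvd_card ⟨b, hb⟩
  rw [show Nat.card (SubMulAction.ofStabilizer G a) = p ^ 2 by
    have := SubMulAction.nat_card_ofStabilizer_add_one_eq (G := G) a
    rw [Nat.card_eq_fintype_card (α := Ω), hcard] at this
    omega] at hdvd
  obtain ⟨m, hm, hmc⟩ := (Nat.dvd_prime_pow hp).mp hdvd
  have hDp : D.ncard = p := by
    rcases m with _ | _ | m
    · exfalso
      apply hDt.1
      rw [pow_zero, Set.ncard_eq_one] at hmc
      obtain ⟨x, rfl⟩ := hmc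
      exact Set.subsingleton_singleton
    · rw [hmc, pow_one]
    · exfalso
      apply hDt.2
      rw [Set.eq_univ_iff_ncard, hmc, show m + 1 + 1 = 2 by omega]
      have := SubMulAction.nat_card_ofStabilizer_add_one_eq (G := G) a
      rw [Nat.card_eq_fintype_card (α := Ω), hcard] at this
      omega
  refine imprimitive_small hp hcard (a := a) (b := (b : Ω)) (B := Subtype.val '' D)
    ⟨⟨b, hb, rfl⟩, ?_, ?_, ?_⟩
  · rintro ⟨x, -, e⟩
    exact hne x e
  · rw [Set.ncard_image_of_injective _ Subtype.val_injective, hDp]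
  · intro g hg x hx hgx y hy
    obtain ⟨x', hx', rfl⟩ := hx
    obtain ⟨z, hz, hze⟩ := hgx
    obtain ⟨y', hy', rfl⟩ := hy
    let g' : stabilizer G a := ⟨g, hg⟩
    have hne' : ((g' • D) ∩ D).Nonempty :=
      ⟨g' • x', Set.smul_mem_smul_set hx', by
        rwa [show g' • x' = z from Subtype.ext hze.symm]⟩
    have he : g' • D = D := by
      by_contra hne2
      exact Set.not_disjoint_iff_nonempty_inter.mpr hne'
        ((isBlock_iff_smul_eq_or_disjoint.mp hD g').resolve_left hne2)
    have hy2 := Set.smul_mem_smul_set (a := g') hy'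
    rw [he] at hy2
    exact ⟨g' • y', hy2, rfl⟩

end DPrim23
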