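import Mathlib

/-!
Systems of blocks of size `p` at every point of a doubly transitive group of degree `p^2+1`:
the lines they define cannot form a design, and a subgroup fixing exactly one line of one of
two crossing systems is impossible.
-/

set_option autoImplicit false

namespace DPrim23

open MulAction
open scoped Pointwise

variable {G Ω : Type*} [Group G] [MulAction G Ω]

/-- `B` is a block of size `p` of the stabiliser of `a`, containing `b`. -/
structure IsBlk (G : Type*) {Ω : Type*} [Group G] [MulAction G Ω] (p : ℕ) (a b : Ω) (B : Set Ω) :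
    Prop where
  mem : b ∈ B
  notMem : a ∉ B
  ncard : B.ncard = p
  block : ∀ g : G, g • a = a → ∀ x ∈ B, g • x ∈ B → ∀ y ∈ B, g • y ∈ B

variable (G) in
/-- The class of `x` in the system at `c` carried over from the block `B` at `a`. -/
def cls (a : Ω) (B : Set Ω) (c x : Ω) : Set Ω :=
  {y | ∃ g : G, g • a = c ∧ g⁻¹ • x ∈ B ∧ g⁻¹ • y ∈ B}

variable (G) in
/-- The line through `c` and `x`. -/
def line (a : Ω) (B : Set Ω) (c x : Ω) : Set Ω := insert c (cls G a B c x)

theorem cls_equiv (a : Ω) (B : Set Ω) (g : G) (c x : Ω) :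
    cls G a B (g • c) (g • x) = g • cls G a B c x := by
  ext y
  rw [Set.mem_smul_set_iff_inv_smul_mem]
  constructor
  · rintro ⟨k, hk, hx, hy⟩
    refine ⟨g⁻¹ * k, by rw [mul_smul, hk, inv_smul_smul], ?_, ?_⟩
    · rwa [mul_inv_rev, inv_inv, mul_smul]
    · rwa [mul_inv_rev, inv_inv, mul_smul, smul_inv_smul]
  · rintro ⟨k, hk, hx, hy⟩
    refine ⟨g * k, by rw [mul_smul, hk], ?_, ?_⟩
    · rwa [mul_inv_rev, mul_smul, inv_smul_smul]
    · rwa [mul_inv_rev, mul_smul]

theorem line_equiv (a : Ω) (B : Set Ω) (g : G) (c x : Ω) :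
    line G a B (g • c) (g • x) = g • line G a B c x := by
  rw [line, line, cls_equiv, Set.smul_set_insert]

variable {p : ℕ} {a b : Ω} {B : Set Ω}

theorem IsBlk.cls_base (hB : IsBlk G p a b B) {x : Ω} (hx : x ∈ B) : cls G a B a x = B := by
  ext y
  constructor
  · rintro ⟨g, hg, h1, h2⟩
    have := hB.block g hg _ h1 (by rwa [smul_inv_smul]) _ h2
    rwa [smul_inv_smul] at this
  · intro hy
    exact ⟨1, one_smul _ _, by simpa using hx, by simpa using hy⟩

theorem IsBlk.cls_a (hB : IsBlk G p a b B) : cls G a B a b = B := hB.cls_base hB.mem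

theorem IsBlk.ne (hB : IsBlk G p a b B) {y c x : Ω} (hy : y ∈ cls G a B c x) : y ≠ c := by
  obtain ⟨g, hg, -, h2⟩ := hy
  rintro rfl
  rw [← hg, inv_smul_smul] at h2
  exact hB.notMem h2

theorem IsBlk.ab_ne (hB : IsBlk G p a b B) : a ≠ b := fun e => hB.notMem (e ▸ hB.mem)

section TwoTrans

variable [IsMultiplyPretransitive G Ω 2]

theorem exists_pair (G : Type*) {Ω : Type*} [Group G] [MulAction G Ω]
    [IsMultiplyPretransitive G Ω 2] {a b c x : Ω} (h : a ≠ b) (h' : c ≠ x) :
    ∃ g : G, g • a = c ∧ g • b = x :=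
  is_two_pretransitive_iff.mp inferInstance h h'

theorem IsBlk.exists_cls_eq (hB : IsBlk G p a b B) {c x : Ω} (h : c ≠ x) :
    ∃ g : G, g • a = c ∧ g • b = x ∧ cls G a B c x = g • B := by
  obtain ⟨g, h1, h2⟩ := exists_pair G hB.ab_ne h
  refine ⟨g, h1, h2, ?_⟩
  rw [← h1, ← h2, cls_equiv, hB.cls_a]

theorem IsBlk.mem_self (hB : IsBlk G p a b B) {c x : Ω} (h : c ≠ x) : x ∈ cls G a B c x := by
  obtain ⟨g, -, h2, hc⟩ := hB.exists_cls_eq h
  rw [hc, ← h2]
  exact Set.smul_mem_smul_set hB.mem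

theorem IsBlk.ncard_cls (hB : IsBlk G p a b B) {c x : Ω} (h : c ≠ x) :
    (cls G a B c x).ncard = p := by
  obtain ⟨g, -, -, hc⟩ := hB.exists_cls_eq h
  rw [hc, Set.ncard_smul_set, hB.ncard]

theorem IsBlk.eq_of_mem (hB : IsBlk G p a b B) {c x y : Ω} (h : c ≠ x)
    (hy : y ∈ cls G a B c x) : cls G a B c y = cls G a B c x := by
  obtain ⟨g, h1, -, hc⟩ := hB.exists_cls_eq h
  rw [hc] at hy ⊢
  obtain ⟨z, hz, rfl⟩ := hy
  simp only
  rw [← h1, cls_equiv, hB.cls_base hz]

theorem IsBlk.symm_mem (hB : IsBlk G p a b B) {c x y : Ω} (h : c ≠ x)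
    (hy : y ∈ cls G a B c x) : x ∈ cls G a B c y := by
  rw [hB.eq_of_mem h hy]
  exact hB.mem_self h

theorem IsBlk.ncard_line (hB : IsBlk G p a b B) [Finite Ω] {c x : Ω} (h : c ≠ x) :
    (line G a B c x).ncard = p + 1 := by
  rw [line, Set.ncard_insert_of_notMem (fun hc => hB.ne hc rfl), hB.ncard_cls h]

/-- If the lines are symmetric then the line through two of its points is the line. -/
theorem IsBlk.line_of_mem (hB : IsBlk G p a b B)
    (hs : ∀ c x : Ω, c ≠ x → line G a B c x = line G a B x c) {c x u w : Ω} (h : c ≠ x)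
    (hu : u ∈ line G a B c x) (hw : w ∈ line G a B c x) (huw : u ≠ w) :
    line G a B u w = line G a B c x := by
  have key : ∀ y ∈ cls G a B c x, line G a B c y = line G a B c x := fun y hy => by
    rw [line, line, hB.eq_of_mem h hy]
  rcases hu with rfl | hu
  · rcases hw with rfl | hw
    · exact absurd rfl huw
    · exact key w hw
  · have huc : c ≠ u := (hB.ne hu).symm
    rcases hw with rfl | hw
    · rw [hs u _ (hB.ne hu), key u hu]
    · have h1 : w ∈ line G a B u c := by
        rw [hs u c huc.symm, key u hu]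
        exact Or.inr hw
      rcases h1 with h1 | h1
      · exact absurd h1.symm huw
      · rw [line, hB.eq_of_mem huc.symm h1, ← line, hs u c huc.symm, key u hu]

/-- The lines of a system of blocks are not symmetric. -/
theorem IsBlk.not_symm (hB : IsBlk G p a b B) [Fintype Ω] (hp : p.Prime)
    (hcard : Fintype.card Ω = p ^ 2 + 1) {c₀ x₀ : Ω} (h₀ : c₀ ≠ x₀) :
    line G a B c₀ x₀ ≠ line G a B x₀ c₀ := by
  classical
  intro he
  have hs : ∀ c x : Ω, c ≠ x → line G a B c x = line G a B x c := by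
    intro c x h
    obtain ⟨g, rfl, rfl⟩ := exists_pair G h₀ h
    rw [line_equiv, line_equiv, he]
  let L : Ω × Ω → Finset Ω := fun q => (line G a B q.1 q.2).toFinset
  have hsum : ((Finset.univ : Finset Ω).offDiag).card =
      ((Finset.univ : Finset Ω).offDiag.image L).card * ((p + 1) * p) := by
    rw [Finset.card_eq_sum_card_image L, Finset.sum_const_nat]
    intro s hs'
    obtain ⟨⟨c, x⟩, hq, rfl⟩ := Finset.mem_image.mp hs'
    have hcx : c ≠ x := by simpa using hq
    have e : ((Finset.univ : Finset Ω).offDiag.filter fun q => L q = L (c, x)) =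
        (L (c, x)).offDiag := by
      ext ⟨u, w⟩
      simp only [Finset.mem_filter, Finset.mem_offDiag, Finset.mem_univ, true_and, L,
        Set.mem_toFinset, Set.toFinset_inj]
      constructor
      · rintro ⟨huw, e⟩
        rw [← e]
        exact ⟨Or.inl rfl, Or.inr (hB.mem_self huw), huw⟩
      · rintro ⟨hu, hw, huw⟩
        exact ⟨huw, hB.line_of_mem hs hcx hu hw huw⟩
    rw [e, Finset.offDiag_card]
    have : (L (c, x)).card = p + 1 := by
      simp only [L]
      rw [← Set.ncard_eq_toFinset_card', hB.ncard_line hcx]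
    rw [this, ← Nat.sub_one_mul]
    simp [mul_comm]
  rw [Finset.offDiag_card, Finset.card_univ, hcard] at hsum
  generalize ((Finset.univ : Finset Ω).offDiag.image L).card = N at hsum
  have h1 : (p ^ 2 + 1) * p ^ 2 = N * ((p + 1) * p) := by
    rw [← hsum, ← Nat.sub_one_mul]
    simp [mul_comm]
  have h2 : ((p + 1 : ℕ) : ℤ) ∣ 2 := by
    have h1' : ((p : ℤ) ^ 2 + 1) * (p : ℤ) ^ 2 = N * ((p + 1) * p) := by exact_mod_cast h1
    refine ⟨N * p - ((p : ℤ) ^ 3 - (p : ℤ) ^ 2 + 2 * p - 2), ?_⟩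
    push_cast
    linear_combination h1'
  have h3 : p + 1 ≤ 2 := by
    have := Int.le_of_dvd (by norm_num) h2
    omega
  have := hp.two_le
  omega

end TwoTrans

section Grid

variable [Fintype Ω]

/-- The classes of a system at `a`. -/
theorem IsBlk.card_classes [IsMultiplyPretransitive G Ω 2] [DecidableEq Ω] (hB : IsBlk G p a b B)
    (hp : 0 < p) (hcard : Fintype.card Ω = p ^ 2 + 1) :
    (({a}ᶜ : Set Ω).toFinite.toFinset.image fun x => cls G a B a x).card = p := by
  classical
  set s := ({a}ᶜ : Set Ω).toFinite.toFinset with hs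
  have hsc : s.card = p ^ 2 := by
    rw [hs, ← Set.ncard_eq_toFinset_card _, Set.ncard_compl, Set.ncard_singleton,
      Nat.card_eq_fintype_card, hcard]
    omega
  have : s.card = (s.image fun x => cls G a B a x).card * p := by
    rw [Finset.card_eq_sum_card_image (fun x => cls G a B a x) s, Finset.sum_const_nat]
    intro K hK
    obtain ⟨x, hx, rfl⟩ := Finset.mem_image.mp hK
    have hxa : a ≠ x := by
      rw [hs, Set.Finite.mem_toFinset] at hx
      exact fun e => hx e.symm
    rw [← hB.ncard_cls hxa, ← Set.ncard_coe_finset]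
    congr 1
    ext y
    simp only [Finset.coe_filter, hs, Set.Finite.mem_toFinset, Set.mem_compl_iff,
      Set.mem_singleton_iff, Set.mem_ofPred_eq]
    constructor
    · rintro ⟨hy, e⟩
      rw [← e]
      exact hB.mem_self (Ne.symm hy)
    · intro hy
      exact ⟨hB.ne hy, hB.eq_of_mem hxa hy⟩
  rw [hsc, pow_two] at this
  exact (Nat.eq_of_mul_eq_mul_right hp this).symm

variable {B₁ B₂ : Set Ω}

omit [Fintype Ω] in
/-- Two crossing classes meet in a single point. -/
theorem cls_inter_unique [IsMultiplyPretransitive G Ω 2] (h1 : IsBlk G p a b B₁)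
    (h2 : IsBlk G p a b B₂) (hi : B₁ ∩ B₂ = {b}) {x y : Ω} (hx : a ≠ x)
    (hy1 : y ∈ cls G a B₁ a x) (hy2 : y ∈ cls G a B₂ a x) : y = x := by
  obtain ⟨g, hga, hgb⟩ := exists_pair G h1.ab_ne hx
  have e : ∀ {D : Set Ω}, IsBlk G p a b D → cls G a D a x = g • D := fun {D} hD => by
    rw [← hgb]
    nth_rw 2 [← hga]
    rw [cls_equiv, hD.cls_a]
  rw [e h1] at hy1
  rw [e h2] at hy2
  have : y ∈ g • (B₁ ∩ B₂) := by
    rw [Set.smul_set_inter]
    exact ⟨hy1, hy2⟩
  rw [hi, Set.smul_set_singleton, hgb] at this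
  exact this

/-- A class of each of two crossing systems always meet. -/
theorem exists_cls_inter [IsMultiplyPretransitive G Ω 2] (h1 : IsBlk G p a b B₁)
    (h2 : IsBlk G p a b B₂) (hi : B₁ ∩ B₂ = {b}) (hcard : Fintype.card Ω = p ^ 2 + 1)
    {x y : Ω} (hx : a ≠ x) (hy : a ≠ y) :
    ∃ z, z ∈ cls G a B₁ a x ∧ z ∈ cls G a B₂ a y := by
  classical
  have hp : 0 < p := by
    rw [← h1.ncard]
    exact (Set.ncard_pos (Set.toFinite _)).mpr ⟨b, h1.mem⟩
  set s := ({a}ᶜ : Set Ω).toFinite.toFinset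
  set K := (cls G a B₂ a y).toFinite.toFinset
  have hK : ∀ {z}, z ∈ K → a ≠ z := fun {z} hz =>
    (h2.ne ((Set.Finite.mem_toFinset _).mp hz)).symm
  have hsub : K.image (fun z => cls G a B₁ a z) = s.image (fun z => cls G a B₁ a z) := by
    apply Finset.eq_of_subset_of_card_le
    · apply Finset.image_subset_image
      intro z hz
      exact (Set.Finite.mem_toFinset _).mpr (hK hz).symm
    · rw [h1.card_classes hp hcard, Finset.card_image_of_injOn, ← Set.ncard_eq_toFinset_card _,
        h2.ncard_cls hy]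
      intro z hz w hw e
      simp only at e
      have hz' := (Set.Finite.mem_toFinset _).mp hz
      have hw' := (Set.Finite.mem_toFinset _).mp hw
      refine cls_inter_unique h1 h2 hi (hK hw) (e ▸ h1.mem_self (hK hz)) ?_
      rw [h2.eq_of_mem hy hw']
      exact hz'
  have : cls G a B₁ a x ∈ K.image (fun z => cls G a B₁ a z) := by
    rw [hsub]
    exact Finset.mem_image_of_mem _ ((Set.Finite.mem_toFinset _).mpr hx.symm)
  obtain ⟨z, hz, e⟩ := Finset.mem_image.mp this
  exact ⟨z, e ▸ h1.mem_self (hK hz), (Set.Finite.mem_toFinset _).mp hz⟩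

/-- A set of `p` points fixed by a group of the two point stabiliser is a class through `b`. -/
theorem fixed_eq [IsMultiplyPretransitive G Ω 2] (h1 : IsBlk G p a b B₁)
    (h2 : IsBlk G p a b B₂) (hi : B₁ ∩ B₂ = {b}) (hp : p.Prime)
    (hcard : Fintype.card Ω = p ^ 2 + 1) (W : Set G) (hWa : ∀ w ∈ W, w • a = a)
    {F : Set Ω} (hF : ∀ x, x ∈ F ↔ x ≠ a ∧ ∀ w ∈ W, w • x = x) (hbF : b ∈ F)
    (hFp : F.ncard = p) : F = B₁ ∨ F = B₂ := by
  classical
  set Fs := F.toFinite.toFinset
  have hne : ∀ {z}, z ∈ F → a ≠ z := fun {z} hz => ((hF z).mp hz).1.symm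
  have hinj : Set.InjOn (fun z => (cls G a B₁ a z, cls G a B₂ a z)) F := by
    intro z hz w hw e
    simp only [Prod.mk.injEq] at e
    exact cls_inter_unique h1 h2 hi (hne hw) (e.1 ▸ h1.mem_self (hne hz))
      (e.2 ▸ h2.mem_self (hne hz))
  have himg : Fs.image (fun z => (cls G a B₁ a z, cls G a B₂ a z)) =
      Fs.image (fun z => cls G a B₁ a z) ×ˢ Fs.image (fun z => cls G a B₂ a z) := by
    ext ⟨K₁, K₂⟩
    simp only [Finset.mem_image, Finset.mem_product, Prod.mk.injEq, Fs, Set.Finite.mem_toFinset]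
    constructor
    · rintro ⟨z, hz, e1, e2⟩
      exact ⟨⟨z, hz, e1⟩, ⟨z, hz, e2⟩⟩
    · rintro ⟨⟨x, hx, rfl⟩, ⟨y, hy, rfl⟩⟩
      obtain ⟨z, hz1, hz2⟩ := exists_cls_inter h1 h2 hi hcard (hne hx) (hne hy)
      refine ⟨z, (hF z).mpr ⟨h1.ne hz1, fun w hw => ?_⟩, h1.eq_of_mem (hne hx) hz1,
        h2.eq_of_mem (hne hy) hz2⟩
      have hfix : ∀ (D : Set Ω) {x' : Ω}, x' ∈ F → z ∈ cls G a D a x' →
          w • z ∈ cls G a D a x' := by
        intro D x' hx' hz'
        have := Set.smul_mem_smul_set (a := w) hz'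
        rwa [← cls_equiv, hWa w hw, ((hF x').mp hx').2 w hw] at this
      apply cls_inter_unique h1 h2 hi (h1.ne hz1).symm
      · rw [h1.eq_of_mem (hne hx) hz1]
        exact hfix B₁ hx hz1
      · rw [h2.eq_of_mem (hne hy) hz2]
        exact hfix B₂ hy hz2
  have hc : (Fs.image (fun z => cls G a B₁ a z)).card *
      (Fs.image (fun z => cls G a B₂ a z)).card = p := by
    rw [← Finset.card_product, ← himg, Finset.card_image_of_injOn,
      ← Set.ncard_eq_toFinset_card _, hFp]
    exact (Set.Finite.coe_toFinset _).symm ▸ hinj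
  have key : ∀ {D : Set Ω}, IsBlk G p a b D →
      (Fs.image (fun z => cls G a D a z)).card = 1 → F = D := by
    intro D hD h
    obtain ⟨K, hK⟩ := Finset.card_eq_one.mp h
    have e : ∀ z ∈ F, cls G a D a z = K := fun z hz => by
      have : cls G a D a z ∈ ({K} : Finset (Set Ω)) :=
        hK ▸ Finset.mem_image_of_mem _ ((Set.Finite.mem_toFinset _).mpr hz)
      simpa using this
    refine Set.eq_of_subset_of_ncard_le (fun z hz => ?_) (by rw [hFp, hD.ncard]) (Set.toFinite _)
    have := hD.mem_self (hne hz)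
    rwa [e z hz, ← e b hbF, hD.cls_a] at this
  rcases (Nat.dvd_prime hp).mp ⟨_, hc.symm⟩ with h | h
  · exact Or.inl (key h1 h)
  · right
    apply key h2
    rw [h] at hc
    exact (mul_eq_left₀ hp.ne_zero).mp hc

/-- No subgroup of the two point stabiliser fixes exactly a line of one of two crossing systems. -/
theorem no_grid [IsMultiplyPretransitive G Ω 2] (h1 : IsBlk G p a b B₁) (h2 : IsBlk G p a b B₂)
    (hi : B₁ ∩ B₂ = {b}) (hp : p.Prime) (hcard : Fintype.card Ω = p ^ 2 + 1)
    (W : Set G) (hW : ∀ x, (∀ w ∈ W, w • x = x) ↔ x ∈ insert a B₁) : False := by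
  have hba : b ≠ a := h1.ab_ne.symm
  obtain ⟨t, hta, htb⟩ := exists_pair G h1.ab_ne hba
  let W' : Set G := (fun w => t * w * t⁻¹) '' W
  have hfix : ∀ x, (∀ w ∈ W', w • x = x) ↔ x ∈ line G a B₁ b a := by
    intro x
    have hl : line G a B₁ b a = t • insert a B₁ := by
      rw [show line G a B₁ b a = line G a B₁ (t • a) (t • b) by rw [hta, htb], line_equiv, line,
        h1.cls_a]
    rw [hl, Set.mem_smul_set_iff_inv_smul_mem, ← hW]
    constructor
    · intro h w hw
      have := h _ ⟨w, hw, rfl⟩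
      rwa [mul_smul, mul_smul, smul_eq_iff_eq_inv_smul] at this
    · rintro h _ ⟨w, hw, rfl⟩
      rw [mul_smul, mul_smul, h w hw, smul_inv_smul]
  have ha : a ∈ line G a B₁ b a := Or.inr (h1.mem_self hba)
  have hb : b ∈ line G a B₁ b a := Or.inl rfl
  have hF := fixed_eq h1 h2 hi hp hcard W' (fun w hw => (hfix a).mpr ha w hw)
    (F := line G a B₁ b a \ {a}) (fun x => by
      rw [Set.mem_sdiff, Set.mem_singleton_iff, ← hfix]
      exact and_comm)
    ⟨hb, hba⟩ (by
      rw [Set.ncard_sdiff_singleton_of_mem ha, h1.ncard_line hba, Nat.add_sub_cancel])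
  have hline : ∀ D : Set Ω, line G a B₁ b a \ {a} = D → line G a B₁ b a = insert a D := by
    intro D e
    rw [← e, Set.insert_sdiff_singleton, Set.insert_eq_of_mem ha]
  rcases hF with h | h
  · apply h1.not_symm hp hcard hba
    rw [hline _ h, line, h1.cls_a]
  · have hstar : ∀ c x : Ω, c ≠ x → line G a B₁ x c = line G a B₂ c x := by
      intro c x hcx
      obtain ⟨g, rfl, rfl⟩ := exists_pair G h1.ab_ne hcx
      rw [line_equiv, line_equiv, hline _ h, line, h2.cls_a]
    obtain ⟨y, hy, hyb⟩ := Set.exists_ne_of_one_lt_ncard (h1.ncard.symm ▸ hp.one_lt) b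
    have hya : y ≠ a := fun e => h1.notMem (e ▸ hy)
    set F := line G a B₁ a b with hFdef
    have e1 : F = line G a B₁ a y := by rw [hFdef, line, line, h1.cls_base hy, h1.cls_a]
    have hxF : b ∈ F := Or.inr (h1.mem_self hba.symm)
    have hyF : y ∈ F := e1 ▸ Or.inr (h1.mem_self hya.symm)
    have e2 : F = line G a B₂ b a := hstar b a hba
    have e3 : F = line G a B₂ y a := e1.trans (hstar y a hya)
    have e4 : F = line G a B₁ y b := by
      rw [hstar b y hyb.symm, e2, line, line]
      rcases (e2 ▸ hyF : y ∈ line G a B₂ b a) with hm | hm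
      · exact absurd hm hyb
      · rw [h2.eq_of_mem hba hm]
    have e5 : F = line G a B₁ b y := by
      rw [hstar y b hyb, e3, line, line]
      rcases (e3 ▸ hxF : b ∈ line G a B₂ y a) with hm | hm
      · exact absurd hm hyb.symm
      · rw [h2.eq_of_mem hya hm]
    exact h1.not_symm hp hcard hyb (e4.symm.trans e5)

end Grid

end DPrim23
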