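import Cfsg.Agent.DPrim23.Basic

/-!
The subgroup fixing every block, and the part of the Sylow subgroup in it.
-/

set_option autoImplicit false
set_option linter.unusedSectionVars false

namespace DPrim23

open MulAction
open scoped Pointwise

variable {G Ω : Type*} [Group G] [MulAction G Ω]

variable (G) in
/-- The elements fixing `a` and every block at `a`. -/
def kerBlk (a : Ω) (B : Set Ω) : Subgroup G :=
  stabilizer G a ⊓ ⨅ x : Ω, stabilizer G (cls G a B a x)

theorem mem_kerBlk {a : Ω} {B : Set Ω} {g : G} :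
    g ∈ kerBlk G a B ↔ g • a = a ∧ ∀ x, g • cls G a B a x = cls G a B a x := by
  simp [kerBlk, Subgroup.mem_inf, Subgroup.mem_iInf, mem_stabilizer_iff]

/-- The elements of `P` fixing the block. -/
def blkGrp (B : Set Ω) (P : Subgroup G) : Subgroup G := P ⊓ stabilizer G B

variable {p : ℕ} {a b : Ω} {B : Set Ω} {P : Subgroup G}

theorem Setup.smul_a (S : Setup G p a b B P) {u : G} (hu : u ∈ P) : u • a = a := S.le hu

theorem Setup.conj_kerBlk (_S : Setup G p a b B P) {g : G} (hg : g • a = a) {m : G}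
    (hm : m ∈ kerBlk G a B) : g * m * g⁻¹ ∈ kerBlk G a B := by
  rw [mem_kerBlk] at hm ⊢
  have hg' : g⁻¹ • a = a := by rw [inv_smul_eq_iff, hg]
  refine ⟨by rw [mul_smul, mul_smul, hg', hm.1, hg], fun x => ?_⟩
  rw [mul_smul, mul_smul, ← cls_equiv, hg', hm.2]
  conv_lhs => rw [← cls_equiv, hg, smul_inv_smul]

variable [Finite Ω] [IsMultiplyPretransitive G Ω 2]

theorem Setup.cls_smul_b (S : Setup G p a b B P) {u : G} (hu : u • a = a) :
    cls G a B a (u • b) = u • B := by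
  conv_lhs => rw [← hu, cls_equiv]
  rw [hu] at *
  rw [S.blk.cls_a]

theorem Setup.smul_B (S : Setup G p a b B P) {u : G} (hu : u • a = a) (hub : u • b ∈ B) :
    u • B = B := by
  rw [← S.cls_smul_b hu, S.blk.cls_base hub]

theorem Setup.mem_blkGrp (S : Setup G p a b B P) {u : G} :
    u ∈ blkGrp B P ↔ u ∈ P ∧ u • b ∈ B := by
  constructor
  · rintro ⟨hu, he⟩
    exact ⟨hu, (mem_stabilizer_iff.mp he) ▸ Set.smul_mem_smul_set S.blk.mem⟩
  · rintro ⟨hu, he⟩
    exact ⟨hu, S.smul_B (S.smul_a hu) he⟩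

theorem Setup.exists_blkGrp (S : Setup G p a b B P) {x : Ω} (hx : x ∈ B) :
    ∃ z ∈ blkGrp B P, z • b = x := by
  obtain ⟨u, hu, rfl⟩ := S.trans x (fun e => S.blk.notMem (e ▸ hx))
  exact ⟨u, S.mem_blkGrp.mpr ⟨hu, hx⟩, rfl⟩

theorem Setup.card_blkGrp (S : Setup G p a b B P) : Nat.card (blkGrp B P) = p := by
  rw [← S.blk.ncard, ← Nat.card_coe_set_eq]
  refine Nat.card_eq_of_bijective (fun z => ⟨(z : G) • b, (S.mem_blkGrp.mp z.2).2⟩) ⟨?_, ?_⟩
  · intro z w e
    have e' : (z : G) • b = (w : G) • b := congrArg Subtype.val e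
    apply Subtype.ext
    refine inv_mul_eq_one.mp (S.free _ (mul_mem (inv_mem z.2.1) w.2.1) b S.blk.ab_ne.symm ?_) |>.trans
      rfl
    rw [mul_smul, ← e', inv_smul_smul]
  · rintro ⟨x, hx⟩
    obtain ⟨z, hz, rfl⟩ := S.exists_blkGrp hx
    exact ⟨⟨z, hz⟩, rfl⟩

theorem Setup.blkGrp_le_kerBlk (S : Setup G p a b B P) : blkGrp B P ≤ kerBlk G a B := by
  intro z hz
  rw [mem_kerBlk]
  refine ⟨S.smul_a hz.1, fun x => ?_⟩
  by_cases hx : x = a
  · subst hx
    conv_lhs => rw [← cls_equiv, S.smul_a hz.1]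
  obtain ⟨u, hu, rfl⟩ := S.trans x hx
  rw [S.cls_smul_b (S.smul_a hu), smul_smul, S.comm z hz.1 u hu, ← smul_smul,
    mem_stabilizer_iff.mp hz.2]

theorem Setup.mem_blkGrp_of_kerBlk (S : Setup G p a b B P) {u : G} (hu : u ∈ P)
    (hk : u ∈ kerBlk G a B) : u ∈ blkGrp B P := by
  refine ⟨hu, ?_⟩
  have := (mem_kerBlk.mp hk).2 b
  rwa [S.blk.cls_a] at this

theorem Setup.kerBlk_smul_mem (S : Setup G p a b B P) {g : G} (hg : g ∈ kerBlk G a B) {x : Ω}
    (hx : x ≠ a) : g • x ∈ cls G a B a x :=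
  (mem_kerBlk.mp hg).2 x ▸ Set.smul_mem_smul_set (S.blk.mem_self hx.symm)

theorem Setup.mem_kerBlk_of (S : Setup G p a b B P) {g : G} (hg : g • a = a)
    (h : ∀ x, x ≠ a → g • x ∈ cls G a B a x) : g ∈ kerBlk G a B := by
  rw [mem_kerBlk]
  refine ⟨hg, fun x => ?_⟩
  by_cases hx : x = a
  · subst hx
    conv_lhs => rw [← cls_equiv, hg]
  · conv_lhs => rw [← cls_equiv, hg]
    exact S.blk.eq_of_mem (Ne.symm hx) (h x hx)

/-- `blkGrp` is transitive on each block. -/
theorem Setup.exists_blkGrp_smul (S : Setup G p a b B P) {x y : Ω} (hx : x ≠ a)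
    (hy : y ∈ cls G a B a x) : ∃ z ∈ blkGrp B P, z • x = y := by
  obtain ⟨u, hu, rfl⟩ := S.trans x hx
  rw [S.cls_smul_b (S.smul_a hu)] at hy
  obtain ⟨y', hy', rfl⟩ := hy
  obtain ⟨z, hz, rfl⟩ := S.exists_blkGrp hy'
  exact ⟨z, hz, by rw [smul_smul, S.comm z hz.1 u hu, mul_smul]⟩

variable [Finite G]

/-- A subgroup of the point stabiliser of `p`-power order has order dividing `p^2`. -/
theorem Setup.card_pgroup_dvd (S : Setup G p a b B P) (hcard : Nat.card Ω = p ^ 2 + 1)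
    {R : Subgroup G} (hR : R ≤ stabilizer G a) (hp' : IsPGroup p R) : Nat.card R ∣ p ^ 2 := by
  have : Fintype Ω := Fintype.ofFinite Ω
  have := Fact.mk S.prime
  obtain ⟨n, hn⟩ := IsPGroup.iff_card.mp hp'
  have h := Subgroup.card_dvd_of_le hR
  rw [card_stab (by rwa [← Nat.card_eq_fintype_card]) S.blk.ab_ne, hn] at h
  rw [hn]
  exact (Nat.Coprime.pow_left n (S.prime.coprime_iff_not_dvd.mpr (S.cop a b S.blk.ab_ne))
    ).dvd_of_dvd_mul_right h

theorem Setup.isPGroup (S : Setup G p a b B P) : IsPGroup p P := IsPGroup.of_card S.cardP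

/-- `p`-subgroups normalised by `P`, or normalising it, lie in `P`. -/
theorem Setup.le_P (S : Setup G p a b B P) (hcard : Nat.card Ω = p ^ 2 + 1) {R : Subgroup G}
    (hR : R ≤ stabilizer G a) (hp' : IsPGroup p R)
    (hn : R ≤ Subgroup.normalizer (P : Set G) ∨ P ≤ Subgroup.normalizer (R : Set G)) : R ≤ P := by
  have hsup : IsPGroup p ↥(R ⊔ P) := by
    rcases hn with h | h
    · exact hp'.to_sup_of_normal_right' S.isPGroup h
    · exact hp'.to_sup_of_normal_left' S.isPGroup h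
  have h := Nat.le_of_dvd (pow_pos S.prime.pos 2)
    (S.card_pgroup_dvd hcard (sup_le hR S.le) hsup)
  rw [← S.cardP] at h
  exact le_sup_left.trans (Subgroup.eq_of_le_of_card_ge le_sup_right h).ge

variable [FaithfulSMul G Ω]

/-- The subgroup fixing every block acts faithfully on each of them. -/
theorem Setup.kerBlk_faithful (S : Setup G p a b B P) {x : Ω} (hx : x ≠ a) {g : G}
    (hg : g ∈ kerBlk G a B) (hfix : ∀ y ∈ cls G a B a x, g • y = y) : g = 1 := by
  classical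
  let K : Subgroup G := kerBlk G a B ⊓ fixingSubgroup G (cls G a B a x)
  have hgK : g ∈ K := Subgroup.mem_inf.mpr ⟨hg, (mem_fixingSubgroup_iff _).mpr hfix⟩
  have hnorm : ∀ m ∈ kerBlk G a B, ∀ k ∈ K, m * k * m⁻¹ ∈ K := by
    intro m hm k hk
    obtain ⟨hk1, hk2⟩ := Subgroup.mem_inf.mp hk
    refine Subgroup.mem_inf.mpr ⟨mul_mem (mul_mem hm hk1) (inv_mem hm),
      (mem_fixingSubgroup_iff _).mpr fun y hy => ?_⟩
    have hy' : m⁻¹ • y ∈ cls G a B a x :=
      (mem_kerBlk.mp (inv_mem hm)).2 x ▸ Set.smul_mem_smul_set hy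
    rw [mul_smul, mul_smul, (mem_fixingSubgroup_iff _).mp hk2 _ hy', smul_inv_smul]
  have hKcop : ¬ p ∣ Nat.card K := fun hd => S.cop a x hx.symm
    (hd.trans (Subgroup.card_dvd_of_le (le_inf (fun k hk => hk.1.1)
      (fun k hk => (mem_fixingSubgroup_iff _).mp hk.2 x (S.blk.mem_self hx.symm)))))
  apply FaithfulSMul.eq_of_smul_eq_smul (α := Ω)
  intro y
  rw [one_smul]
  by_cases hy : y = a
  · rw [hy]; exact (mem_kerBlk.mp hg).1
  set C := (cls G a B a y).toFinite.toFinset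
  have hconst : ∀ y' ∈ cls G a B a y, (orbit K y').ncard = (orbit K y).ncard := by
    intro y' hy'
    obtain ⟨z, hz, rfl⟩ := S.exists_blkGrp_smul hy hy'
    have hzM := S.blkGrp_le_kerBlk hz
    rw [smul_orbit K z (hnorm z hzM) (fun k hk => by
      simpa using hnorm z⁻¹ (inv_mem hzM) k hk), Set.ncard_smul_set]
  have hsub : ∀ y' ∈ cls G a B a y, orbit K y' ⊆ cls G a B a y := by
    rintro y' hy' _ ⟨⟨k, hk⟩, rfl⟩
    exact (mem_kerBlk.mp hk.1).2 y ▸ Set.smul_mem_smul_set hy'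
  have hdvd : (orbit K y).ncard ∣ p := by
    refine ⟨(C.image fun y' => orbit K y').card, ?_⟩
    rw [← S.blk.ncard_cls (c := a) (x := y) (Ne.symm hy), Set.ncard_eq_toFinset_card _,
      Finset.card_eq_sum_card_image (fun y' => orbit K y') C, Finset.sum_const_nat (m := (orbit K y).ncard),
      mul_comm]
    intro O hO
    obtain ⟨y', hy', rfl⟩ := Finset.mem_image.mp hO
    have hy'' := (Set.Finite.mem_toFinset _).mp hy'
    rw [← hconst y' hy'', ← Set.ncard_coe_finset]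
    congr 1
    ext z
    simp only [Finset.coe_filter, C, Set.Finite.mem_toFinset, Set.mem_ofPred_eq]
    constructor
    · rintro ⟨-, e⟩
      rw [← e]
      exact mem_orbit_self z
    · intro hz
      exact ⟨hsub y' hy'' hz, orbit_eq_iff.mpr hz⟩
  have h1 : (orbit K y).ncard = 1 := by
    rcases (Nat.dvd_prime S.prime).mp hdvd with h | h
    · exact h
    · exfalso
      apply hKcop
      rw [← card_orbit_mul K y, h]
      exact dvd_mul_right _ _
  obtain ⟨w, hw⟩ := Set.ncard_eq_one.mp h1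
  have m1 : y ∈ orbit K y := mem_orbit_self y
  have m2 : g • y ∈ orbit K y := ⟨⟨g, hgK⟩, rfl⟩
  rw [hw] at m1 m2
  exact m2.trans m1.symm

theorem Setup.centralizer_blkGrp_kerBlk (S : Setup G p a b B P) {g : G}
    (hg : g ∈ kerBlk G a B) (hc : ∀ z ∈ blkGrp B P, g * z = z * g) : g ∈ blkGrp B P := by
  have hb := S.blk.ab_ne.symm
  have hgb : g • b ∈ B := by
    have := S.kerBlk_smul_mem hg hb
    rwa [S.blk.cls_a] at this
  obtain ⟨z, hz, hzb⟩ := S.exists_blkGrp hgb
  have hzg : z⁻¹ * g = 1 := by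
    refine S.kerBlk_faithful hb (mul_mem (inv_mem (S.blkGrp_le_kerBlk hz)) hg) fun y hy => ?_
    rw [S.blk.cls_a] at hy
    obtain ⟨w, hw, rfl⟩ := S.exists_blkGrp hy
    rw [mul_smul, ← mul_smul g, hc w hw, mul_smul, ← hzb, ← mul_smul, ← mul_smul,
      show z⁻¹ * w * z = w from by rw [mul_assoc, ← S.comm z hz.1 w hw.1, inv_mul_cancel_left]]
  exact (inv_mul_eq_one.mp hzg) ▸ hz

end DPrim23
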