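import Cfsg.Agent.DPrim23.CaseB

/-!
With a normal Sylow subgroup the two point stabiliser is semiregular on the other points.
-/

set_option autoImplicit false
set_option linter.unusedSectionVars false

namespace DPrim23

open MulAction
open scoped Pointwise

variable {G Ω : Type*} [Group G] [MulAction G Ω] [Finite G] [Fintype Ω] [FaithfulSMul G Ω]
  [IsMultiplyPretransitive G Ω 2] {p : ℕ} {a b : Ω} {B : Set Ω} {P : Subgroup G}

theorem conj_pow_of_comm {h v c : G} (hc : h * c = c * h)
    (e : h * v * h⁻¹ = v * c) : ∀ n : ℕ, h ^ n * v * (h ^ n)⁻¹ = v * c ^ n := by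
  intro n
  induction n with
  | zero => simp
  | succ n ih =>
    have h1 : h * c ^ n * h⁻¹ = c ^ n := by
      rw [(show Commute h c from hc).pow_right n |>.eq, mul_inv_cancel_right]
    calc h ^ (n + 1) * v * (h ^ (n + 1))⁻¹ = h * (h ^ n * v * (h ^ n)⁻¹) * h⁻¹ := by group
      _ = (h * v * h⁻¹) * (h * c ^ n * h⁻¹) := by rw [ih]; group
      _ = v * c ^ (n + 1) := by rw [e, h1, mul_assoc, ← pow_succ']

/-- An element of a two point stabiliser moving `v` by an element of order dividing `p` which it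
centralises centralises `v`. -/
theorem Setup.coprime_conj (S : Setup G p a b B P) {h v c : G} (ha : h • a = a) (hb : h • b = b)
    (hc : h * c = c * h) (hcp : c ^ p = 1) (e : h * v * h⁻¹ = v * c) :
    h * v = v * h := by
  have h1 := conj_pow_of_comm hc e (orderOf h)
  rw [pow_orderOf_eq_one, one_mul, inv_one, mul_one, eq_comm, mul_eq_left] at h1
  have hcop : ¬ p ∣ orderOf h := fun hd => S.cop a b S.blk.ab_ne (hd.trans (by
    have := orderOf_dvd_natCard (⟨h, Subgroup.mem_inf.mpr ⟨ha, hb⟩⟩ :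
      ↥(stabilizer G a ⊓ stabilizer G b))
    rwa [Subgroup.orderOf_mk] at this))
  have hc1 : c = 1 := by
    rcases (Nat.dvd_prime S.prime).mp (orderOf_dvd_of_pow_eq_one hcp) with h2 | h2
    · exact orderOf_eq_one_iff.mp h2
    · exact absurd (h2 ▸ orderOf_dvd_of_pow_eq_one h1) hcop
  rw [hc1, mul_one, mul_inv_eq_iff_eq_mul] at e
  exact e

theorem Setup.eq_one_of_central (S : Setup G p a b B P) {h : G} (ha : h • a = a) (hb : h • b = b)
    (hc : ∀ u ∈ P, h * u = u * h) : h = 1 := by
  apply FaithfulSMul.eq_of_smul_eq_smul (α := Ω)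
  intro x
  rw [one_smul]
  by_cases hx : x = a
  · rw [hx, ha]
  · obtain ⟨u, hu, rfl⟩ := S.trans x hx
    rw [smul_smul, hc u hu, mul_smul, hb]

theorem Setup.orbit_ncard (S : Setup G p a b B P) {A : Subgroup G} (hA : A ≤ P) :
    (orbit A b).ncard = Nat.card A := by
  have : A ⊓ stabilizer G b = ⊥ := by
    rw [Subgroup.eq_bot_iff_forall]
    exact fun u hu => S.free u (hA hu.1) b S.blk.ab_ne.symm hu.2
  rw [← card_orbit_mul A b, this, Subgroup.card_bot, mul_one]

theorem Setup.sup_eq (S : Setup G p a b B P) {A A' : Subgroup G} (hA : A ≤ P) (hA' : A' ≤ P)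
    (hp' : Nat.card A = p) (hne : ¬ A' ≤ A) : A ⊔ A' = P := by
  apply Subgroup.eq_of_le_of_card_ge (sup_le hA hA')
  obtain ⟨m, hm, hmc⟩ := (Nat.dvd_prime_pow S.prime).mp
    (S.cardP ▸ Subgroup.card_dvd_of_le (sup_le hA hA'))
  rcases Nat.lt_or_ge m 2 with hm2 | hm2
  · exfalso
    apply hne
    have hle : Nat.card ↥(A ⊔ A') ≤ Nat.card A := by
      rw [hmc, hp']
      calc p ^ m ≤ p ^ 1 := Nat.pow_le_pow_right S.prime.pos (by omega)
        _ = p := pow_one p
    exact le_sup_right.trans (Subgroup.eq_of_le_of_card_ge le_sup_left hle).ge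
  · rw [S.cardP, hmc]
    exact Nat.pow_le_pow_right S.prime.pos hm2

/-- An element fixing `a`, `b` that centralises two different subgroups of `P`, is trivial. -/
theorem Setup.eq_one_of_gen (S : Setup G p a b B P) {A : Subgroup G} (hA : A ≤ P)
    (hp' : Nat.card A = p) {v : G} (hv : v ∈ P) (hvA : v ∉ A) {h : G} (ha : h • a = a)
    (hb : h • b = b) (hcA : ∀ z ∈ A, h * z = z * h) (hcv : h * v = v * h) : h = 1 := by
  refine S.eq_one_of_central ha hb fun u hu => ?_
  have hle : A ⊔ Subgroup.zpowers v ≤ Subgroup.centralizer {h} :=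
    sup_le (fun z hz => Subgroup.mem_centralizer_singleton_iff.mpr (hcA z hz).symm)
      (Subgroup.zpowers_le.mpr (Subgroup.mem_centralizer_singleton_iff.mpr hcv.symm))
  rw [S.sup_eq hA (Subgroup.zpowers_le.mpr hv) hp'
    (fun hle => hvA (hle (Subgroup.mem_zpowers v)))] at hle
  exact (Subgroup.mem_centralizer_singleton_iff.mp (hle hu)).symm

/-- Two invariant subgroups of order `p`, one the fixed subgroup of `h`, are impossible. -/
theorem Setup.no_two_lines (S : Setup G p a b B P) (hcard : Fintype.card Ω = p ^ 2 + 1)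
    {A A' : Subgroup G} (hA : A ≤ P) (hA' : A' ≤ P) (hcA : Nat.card A = p) (hcA' : Nat.card A' = p)
    (hne : A ≠ A') (hnA : ∀ g : G, g • a = a → ∀ n ∈ A, g * n * g⁻¹ ∈ A)
    (hnA' : ∀ g : G, g • a = a → ∀ n ∈ A', g * n * g⁻¹ ∈ A')
    {h : G} (ha : h • a = a) (hb : h • b = b) (hfix : ∀ u ∈ P, u ∈ A ↔ h * u = u * h) : False := by
  have h1 := S.blk_of_orbit A (hA.trans S.le) hnA (by rw [S.orbit_ncard hA, hcA])
  have h2 := S.blk_of_orbit A' (hA'.trans S.le) hnA' (by rw [S.orbit_ncard hA', hcA'])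
  refine no_grid h1 h2 ?_ S.prime hcard {h} fun x => ?_
  · ext x
    simp only [Set.mem_inter_iff, Set.mem_singleton_iff]
    constructor
    · rintro ⟨⟨⟨u, hu⟩, rfl⟩, ⟨⟨v, hv⟩, e⟩⟩
      have e' : v • b = u • b := e
      have huv : u⁻¹ * v = 1 := S.free _ (mul_mem (inv_mem (hA hu)) (hA' hv)) b
        S.blk.ab_ne.symm (by rw [mul_smul, e', inv_smul_smul])
      have huA' : u ∈ A' := (inv_mul_eq_one.mp huv) ▸ hv
      show u • b = b
      by_contra hub
      have hu1 : u ≠ 1 := fun e => hub (by rw [e, one_smul])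
      apply hne
      have hz : ∀ {D : Subgroup G}, Nat.card D = p → u ∈ D → Subgroup.zpowers u = D := by
        intro D hD huD
        refine Subgroup.eq_of_le_of_card_ge (Subgroup.zpowers_le.mpr huD) ?_
        rw [Nat.card_zpowers, hD]
        have h := orderOf_dvd_natCard (⟨u, huD⟩ : D)
        rw [Subgroup.orderOf_mk, hD] at h
        rcases (Nat.dvd_prime S.prime).mp h with h | h
        · exact absurd (orderOf_eq_one_iff.mp h) hu1
        · exact h.ge
      rw [← hz hcA hu, hz hcA' huA']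
    · rintro rfl
      exact ⟨mem_orbit_self _, mem_orbit_self _⟩
  · simp only [Set.mem_singleton_iff, forall_eq]
    constructor
    · intro hx
      by_cases hxa : x = a
      · exact Or.inl hxa
      obtain ⟨u, hu, rfl⟩ := S.trans x hxa
      refine Or.inr ⟨⟨u, (hfix u hu).mpr ?_⟩, rfl⟩
      -- `h u h⁻¹` and `u` agree at `b`
      by_contra hc
      have hsa : h⁻¹ • a = a := by rw [inv_smul_eq_iff, ha]
      have hP : h * u * h⁻¹ ∈ stabilizer G a := by
        show (h * u * h⁻¹) • a = a
        rw [mul_smul, mul_smul, hsa, S.smul_a hu, ha]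
      have hsb : h⁻¹ • b = b := by rw [inv_smul_eq_iff, hb]
      have hT : u⁻¹ * (h * u * h⁻¹) ∈ stabilizer G a ⊓ stabilizer G b :=
        Subgroup.mem_inf.mpr ⟨mul_mem (inv_mem (S.le hu)) hP, by
          show (u⁻¹ * (h * u * h⁻¹)) • b = b
          rw [mul_smul, mul_smul, mul_smul, hsb, hx, inv_smul_smul]⟩
      have hconjP : h * u * h⁻¹ ∈ P := by
        -- `P` is generated by the two invariant subgroups
        have hsup := S.sup_eq hA hA' hcA (fun hle => hne
          (Subgroup.eq_of_le_of_card_ge hle (by rw [hcA, hcA'])).symm)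
        have hm : (A ⊔ A').map (MulAut.conj h).toMonoidHom ≤ A ⊔ A' := by
          rw [Subgroup.map_sup]
          exact sup_le_sup (by rintro _ ⟨z, hz, rfl⟩; exact hnA h ha z hz)
            (by rintro _ ⟨d, hd, rfl⟩; exact hnA' h ha d hd)
        rw [hsup] at hm
        exact hm ⟨u, hu, rfl⟩
      have h1 := S.free _ (mul_mem (inv_mem hu) hconjP) b S.blk.ab_ne.symm hT.2
      rw [inv_mul_eq_one] at h1
      exact hc (mul_inv_eq_iff_eq_mul.mp h1.symm)
    · rintro (rfl | ⟨⟨u, hu⟩, rfl⟩)
      · exact ha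
      · show h • u • b = u • b
        rw [smul_smul, (hfix u (hA hu)).mp hu, mul_smul, hb]

theorem caseC_semiregular (S : Setup G p a b B P) (hcard : Fintype.card Ω = p ^ 2 + 1)
    (hPn : ∀ g : G, g • a = a → ∀ u ∈ P, g * u * g⁻¹ ∈ P)
    (hZn : ∀ g : G, g • a = a → ∀ z ∈ blkGrp B P, g * z * g⁻¹ ∈ blkGrp B P)
    {h : G} (ha : h • a = a) (hb : h • b = b) {x : Ω} (hxa : x ≠ a) (hxb : x ≠ b)
    (hx : h • x = x) : h = 1 := by
  classical
  have := Fact.mk S.prime
  set Z := blkGrp B P with hZ
  have hZP : Z ≤ P := inf_le_left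
  obtain ⟨w, hw, rfl⟩ := S.trans x hxa
  have hw1 : w ≠ 1 := fun e => hxb (by rw [e, one_smul])
  have hsb : h⁻¹ • b = b := by rw [inv_smul_eq_iff, hb]
  have hwc : h * w = w * h := by
    have e := S.free (w⁻¹ * (h * w * h⁻¹)) (mul_mem (inv_mem hw) (hPn h ha w hw)) b
      S.blk.ab_ne.symm (by rw [mul_smul, mul_smul, mul_smul, hsb, hx, inv_smul_smul])
    rw [inv_mul_eq_one] at e
    exact mul_inv_eq_iff_eq_mul.mp e.symm
  by_contra hh
  by_cases hexp : ∀ v ∈ P, v ^ p = 1
  · let A : Subgroup G := P ⊓ Subgroup.centralizer {h}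
    have hAmem : ∀ {v : G}, v ∈ A ↔ v ∈ P ∧ v * h = h * v := fun {v} => by
      simp only [A, Subgroup.mem_inf, Subgroup.mem_centralizer_singleton_iff]
    have hcA : Nat.card A = p := by
      obtain ⟨m, hm, hmc⟩ := (Nat.dvd_prime_pow S.prime).mp
        (S.cardP ▸ Subgroup.card_dvd_of_le (inf_le_left : A ≤ P))
      rcases m with _ | _ | m
      · exfalso
        rw [pow_zero] at hmc
        exact hw1 ((Subgroup.eq_bot_iff_forall _).mp (Subgroup.card_eq_one.mp hmc) w
          (hAmem.mpr ⟨hw, hwc.symm⟩))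
      · rw [hmc, pow_one]
      · exfalso
        have hm0 : m = 0 := by omega
        subst hm0
        have e : A = P := Subgroup.eq_of_le_of_card_ge inf_le_left (by rw [S.cardP, hmc])
        exact hh (S.eq_one_of_central ha hb fun v hv =>
          ((hAmem.mp (e ▸ hv : v ∈ A)).2).symm)
    -- the two point stabiliser is commutative
    have habel : ∀ k : G, k • a = a → k • b = b → k * h = h * k := by
      intro k hka hkb
      set g := (k * h) * (h * k)⁻¹ with hg
      suffices hg1 : g = 1 from mul_inv_eq_one.mp hg1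
      have hga : g • a = a := by
        have : (h * k)⁻¹ • a = a := by rw [inv_smul_eq_iff, mul_smul, hka, ha]
        rw [hg, mul_smul, this, mul_smul, ha, hka]
      have hgb : g • b = b := by
        have : (h * k)⁻¹ • b = b := by rw [inv_smul_eq_iff, mul_smul, hkb, hb]
        rw [hg, mul_smul, this, mul_smul, hb, hkb]
      obtain ⟨z0, hz0, hz0ne⟩ := Z.bot_or_exists_ne_one.resolve_left (fun e => by
        have := S.card_blkGrp
        rw [← hZ, e, Subgroup.card_bot] at this
        exact S.prime.one_lt.ne this)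
      have hzgen : ∀ z ∈ Z, ∃ i : ℕ, z = z0 ^ i := by
        intro z hz
        have : z ∈ Subgroup.zpowers z0 := by
          have e : Subgroup.zpowers z0 = Z := by
            refine Subgroup.eq_of_le_of_card_ge (Subgroup.zpowers_le.mpr hz0) ?_
            rw [Nat.card_zpowers, hZ, S.card_blkGrp, orderOf_eq_prime (hexp z0 (hZP hz0)) hz0ne]
          rw [e]; exact hz
        obtain ⟨i, hi⟩ := (isOfFinOrder_of_finite z0).mem_powers_iff_mem_zpowers.mpr this
        exact ⟨i, hi.symm⟩
      obtain ⟨i, hi⟩ := hzgen _ (hZn h ha z0 hz0)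
      obtain ⟨j, hj⟩ := hzgen _ (hZn k hka z0 hz0)
      have hgz : ∀ z ∈ Z, g * z = z * g := by
        have h0 : g * z0 = z0 * g := by
          have e1 : (k * h) * z0 * (k * h)⁻¹ = z0 ^ (j * i) := by
            calc (k * h) * z0 * (k * h)⁻¹ = k * (h * z0 * h⁻¹) * k⁻¹ := by group
              _ = z0 ^ (j * i) := by rw [hi, ← conj_pow, hj, ← pow_mul]
          have e2 : (h * k) * z0 * (h * k)⁻¹ = z0 ^ (j * i) := by
            calc (h * k) * z0 * (h * k)⁻¹ = h * (k * z0 * k⁻¹) * h⁻¹ := by group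
              _ = z0 ^ (j * i) := by rw [hj, ← conj_pow, hi, ← pow_mul, mul_comm]
          have e3 : g * z0 ^ (j * i) * g⁻¹ = z0 ^ (j * i) := by
            nth_rw 1 [← e2]
            rw [hg, ← e1]
            group
          obtain ⟨l, hl⟩ := hzgen _ (hZn g hga z0 hz0)
          -- injectivity of conjugation
          have hji : z0 ^ (j * i) ≠ 1 := by
            rw [← e2]
            exact fun e => hz0ne (conj_eq_one_iff.mp e)
          have hgen : z0 ∈ Subgroup.zpowers (z0 ^ (j * i)) := by
            have e : Subgroup.zpowers (z0 ^ (j * i)) = Z := by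
              refine Subgroup.eq_of_le_of_card_ge (Subgroup.zpowers_le.mpr (pow_mem hz0 _)) ?_
              rw [Nat.card_zpowers, hZ, S.card_blkGrp,
                orderOf_eq_prime (hexp _ (hZP (pow_mem hz0 _))) hji]
            rw [e]; exact hz0
          obtain ⟨q, hq⟩ := Subgroup.mem_zpowers_iff.mp hgen
          rw [mul_inv_eq_iff_eq_mul] at e3
          have hcm : Commute g (z0 ^ (j * i)) := e3
          have := hcm.zpow_right q
          rw [hq] at this
          exact this
        intro z hz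
        obtain ⟨q, rfl⟩ := hzgen z hz
        exact (show Commute g z0 from h0).pow_right q
      obtain ⟨u0, hu0, hu0Z⟩ : ∃ u0 ∈ P, u0 ∉ Z := by
        by_contra hc
        push Not at hc
        have := Subgroup.card_le_of_le (show P ≤ Z from hc)
        rw [S.cardP, S.card_blkGrp, pow_two] at this
        have := Nat.mul_lt_mul_of_pos_left S.prime.one_lt S.prime.pos
        omega
      have hdec : ∀ v ∈ P, ∃ z ∈ Z, ∃ n : ℕ, v = z * u0 ^ n := by
        intro v hv
        have hnorm : Subgroup.zpowers u0 ≤ Subgroup.normalizer (Z : Set G) :=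
          Subgroup.zpowers_le.mpr (Subgroup.mem_normalizer_fintype fun z hz =>
            hZn u0 (S.smul_a hu0) z hz)
        have hvs : v ∈ ((Z ⊔ Subgroup.zpowers u0 : Subgroup G) : Set G) := by
          rw [S.sup_eq hZP (Subgroup.zpowers_le.mpr hu0) S.card_blkGrp
            (fun hle => hu0Z (hle (Subgroup.mem_zpowers u0)))]
          exact hv
        rw [Subgroup.coe_mul_of_right_le_normalizer_left _ _ hnorm] at hvs
        obtain ⟨z, hz, t, ht, rfl⟩ := Set.mem_mul.mp hvs
        obtain ⟨n, rfl⟩ := (isOfFinOrder_of_finite u0).mem_powers_iff_mem_zpowers.mpr ht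
        exact ⟨z, hz, n, rfl⟩
      obtain ⟨z1, hz1, m, hm⟩ := hdec _ (hPn h ha u0 hu0)
      obtain ⟨z2, hz2, n, hn⟩ := hdec _ (hPn k hka u0 hu0)
      set s := (h * k) * u0 * (h * k)⁻¹ with hs
      have hsP : s ∈ P := hPn (h * k) (by rw [mul_smul, hka, ha]) u0 hu0
      have hc : s⁻¹ * (g * s * g⁻¹) ∈ Z := by
        have e1 : (k * h) * u0 * (k * h)⁻¹ = (k * z1 * k⁻¹) * (z2 ^ m * u0 ^ (n * m)) := by
          calc (k * h) * u0 * (k * h)⁻¹ = k * (h * u0 * h⁻¹) * k⁻¹ := by group
            _ = (k * z1 * k⁻¹) * (k * u0 * k⁻¹) ^ m := by rw [hm, conj_pow]; group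
            _ = _ := by
              rw [hn, (show Commute z2 (u0 ^ n) from S.comm _ (hZP hz2) _
                (pow_mem hu0 n)).mul_pow, ← pow_mul]
        have e2 : s = (h * z2 * h⁻¹) * (z1 ^ n * u0 ^ (m * n)) := by
          calc s = h * (k * u0 * k⁻¹) * h⁻¹ := by rw [hs]; group
            _ = (h * z2 * h⁻¹) * (h * u0 * h⁻¹) ^ n := by rw [hn, conj_pow]; group
            _ = _ := by
              rw [hm, (show Commute z1 (u0 ^ m) from S.comm _ (hZP hz1) _
                (pow_mem hu0 m)).mul_pow, ← pow_mul]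
        have e3 : g * s * g⁻¹ = (k * h) * u0 * (k * h)⁻¹ := by rw [hg, hs]; group
        rw [e3, e1, e2, mul_comm m n, ← mul_assoc (h * z2 * h⁻¹), ← mul_assoc (k * z1 * k⁻¹)]
        have hA1 : (k * z1 * k⁻¹) * z2 ^ m ∈ Z := mul_mem (hZn k hka z1 hz1) (pow_mem hz2 _)
        have hA2 : (h * z2 * h⁻¹) * z1 ^ n ∈ Z := mul_mem (hZn h ha z2 hz2) (pow_mem hz1 _)
        have hx1 := S.comm _ (hZP hA1) _ (pow_mem hu0 (n * m))
        have hx2 := S.comm _ (hZP hA2) _ (pow_mem hu0 (n * m))
        rw [hx1, hx2]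
        have := mul_mem (inv_mem hA2) hA1
        convert this using 1
        group
      have hgs : g * s = s * g := by
        refine S.coprime_conj hga hgb (hgz _ hc) (hexp _ (hZP hc)) ?_
        group
      refine S.eq_one_of_gen hZP S.card_blkGrp hsP (fun hsZ => hu0Z ?_) hga hgb hgz hgs
      have hinv : (h * k)⁻¹ • a = a := by rw [inv_smul_eq_iff, mul_smul, hka, ha]
      have := hZn _ hinv _ hsZ
      rw [hs] at this
      convert this using 1
      group
    -- conjugation by the point stabiliser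
    have hnorm : ∀ (D : Subgroup G), D ≤ P →
        (∀ k : G, k • a = a → k • b = b → ∀ v ∈ D, k * v * k⁻¹ ∈ D) →
        ∀ g : G, g • a = a → ∀ v ∈ D, g * v * g⁻¹ ∈ D := by
      intro D hD hk g hg v hv
      obtain ⟨u, hu, hub⟩ := S.trans (g • b)
        (fun e => S.blk.ab_ne (smul_left_cancel g (hg.trans e.symm)))
      have hua : u⁻¹ • a = a := by rw [inv_smul_eq_iff, S.smul_a hu]
      have hka : (u⁻¹ * g) • a = a := by rw [mul_smul, hg, hua]
      have hkb : (u⁻¹ * g) • b = b := by rw [mul_smul, inv_smul_eq_iff, hub]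
      have hm := hk _ hka hkb v hv
      have : g * v * g⁻¹ = (u⁻¹ * g) * v * (u⁻¹ * g)⁻¹ := by
        have hc := S.comm u hu _ (hD hm)
        calc g * v * g⁻¹ = u * ((u⁻¹ * g) * v * (u⁻¹ * g)⁻¹) * u⁻¹ := by group
          _ = _ := by rw [hc, mul_inv_cancel_right]
      rw [this]
      exact hm
    have hAn := hnorm A inf_le_left fun k hka hkb v hv => by
      obtain ⟨hvP, hvh⟩ := hAmem.mp hv
      refine hAmem.mpr ⟨hPn k hka v hvP, ?_⟩
      have e := habel k hka hkb
      have e2 : k⁻¹ * h = h * k⁻¹ := by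
        rw [inv_mul_eq_iff_eq_mul, ← mul_assoc, e, mul_inv_cancel_right]
      calc k * v * k⁻¹ * h = k * (v * h) * k⁻¹ := by
            rw [mul_assoc, e2]; group
        _ = (k * h) * v * k⁻¹ := by rw [hvh]; group
        _ = h * (k * v * k⁻¹) := by rw [e]; group
    have hfixA : ∀ v ∈ P, v ∈ A ↔ h * v = v * h := fun v hv =>
      ⟨fun hvA => (hAmem.mp hvA).2.symm, fun e => hAmem.mpr ⟨hv, e.symm⟩⟩
    by_cases hAZ : A = Z
    · -- the image of the commutator map
      let ψ : P →* G :=
        { toFun := fun v => (v : G)⁻¹ * (h * v * h⁻¹)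
          map_one' := by simp
          map_mul' := fun v v' => by
            simp only [Subgroup.coe_mul]
            have h1 := S.comm _ (mul_mem (inv_mem v.2) (hPn h ha v v.2)) _ (inv_mem v'.2)
            calc ((v : G) * v')⁻¹ * (h * (v * v') * h⁻¹)
                = ((v' : G)⁻¹ * ((v : G)⁻¹ * (h * v * h⁻¹))) * (h * v' * h⁻¹) := by group
              _ = _ := by rw [← h1]; group }
      have hYP : ψ.range ≤ P := by
        rintro _ ⟨v, rfl⟩
        exact mul_mem (inv_mem v.2) (hPn h ha v v.2)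
      have hker : ψ.ker = A.subgroupOf P := by
        ext v
        rw [MonoidHom.mem_ker, Subgroup.mem_subgroupOf, hfixA v v.2]
        show (v : G)⁻¹ * (h * v * h⁻¹) = 1 ↔ _
        rw [inv_mul_eq_one, eq_mul_inv_iff_mul_eq, eq_comm]
      have hcY : Nat.card ψ.range = p := by
        have h1 := Subgroup.index_mul_card ψ.ker
        rw [Subgroup.index_ker, hker] at h1
        rw [Nat.card_congr (Subgroup.subgroupOfEquivOfLe (inf_le_left : A ≤ P)).toEquiv,
          hcA, S.cardP, pow_two] at h1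
        exact Nat.eq_of_mul_eq_mul_right S.prime.pos h1
      have hYn := hnorm ψ.range hYP fun k hka hkb v hv => by
        obtain ⟨v', rfl⟩ := hv
        refine ⟨⟨_, hPn k hka v' v'.2⟩, ?_⟩
        show (k * v' * k⁻¹)⁻¹ * (h * (k * v' * k⁻¹) * h⁻¹) =
          k * ((v' : G)⁻¹ * (h * v' * h⁻¹)) * k⁻¹
        have e := habel k hka hkb
        calc (k * v' * k⁻¹)⁻¹ * (h * (k * v' * k⁻¹) * h⁻¹)
            = k * (v' : G)⁻¹ * k⁻¹ * ((h * k) * v' * (h * k)⁻¹) := by group
          _ = _ := by rw [← e]; group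
      refine S.no_two_lines hcard inf_le_left hYP hcA hcY (fun e => ?_) hAn hYn ha hb hfixA
      -- otherwise `h` centralises `P`
      apply hh
      refine S.eq_one_of_central ha hb fun v hv => ?_
      have hcm : (v⁻¹ * (h * v * h⁻¹)) ∈ A := by
        rw [show A = ψ.range from e]
        exact ⟨⟨v, hv⟩, rfl⟩
      obtain ⟨hcP, hcc⟩ := hAmem.mp hcm
      exact S.coprime_conj ha hb hcc.symm (hexp _ hcP) (by group)
    · exact S.no_two_lines hcard inf_le_left hZP hcA S.card_blkGrp hAZ hAn hZn ha hb hfixA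
  · -- cyclic Sylow subgroup
    push Not at hexp
    obtain ⟨u, hu, hup⟩ := hexp
    have hord : orderOf u = p ^ 2 := by
      have h1 : orderOf u ∣ p ^ 2 := by
        rw [← S.cardP, ← Subgroup.orderOf_mk (H := P) u hu]
        exact orderOf_dvd_natCard _
      obtain ⟨m, hm, hme⟩ := (Nat.dvd_prime_pow S.prime).mp h1
      rcases Nat.lt_or_ge m 2 with h2 | h2
      · exact absurd (orderOf_dvd_iff_pow_eq_one.mp (hme ▸ (pow_dvd_pow p (show m ≤ 1 by omega)).trans
          (pow_one p).dvd)) hup
      · rw [hme, show m = 2 by omega]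
    have hgen : Subgroup.zpowers u = P := Subgroup.eq_of_le_of_card_ge
      (Subgroup.zpowers_le.mpr hu) (by rw [Nat.card_zpowers, hord, S.cardP])
    have hpw : ∀ v ∈ P, ∃ i : ℕ, v = u ^ i := by
      intro v hv
      obtain ⟨i, hi⟩ := (isOfFinOrder_of_finite u).mem_powers_iff_mem_zpowers.mpr (hgen ▸ hv)
      exact ⟨i, hi.symm⟩
    have hup2 : (u ^ p) ^ p = 1 := by
      rw [← pow_mul, ← pow_two, ← hord, pow_orderOf_eq_one]
    have hcp : h * u ^ p = u ^ p * h := by
      obtain ⟨i, rfl⟩ := hpw w hw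
      by_cases hpi : p ∣ i
      · obtain ⟨j, rfl⟩ := hpi
        rw [pow_mul] at hwc hw1
        have hgen' : u ^ p ∈ Subgroup.zpowers ((u ^ p) ^ j) := by
          have e : Subgroup.zpowers ((u ^ p) ^ j) = Subgroup.zpowers (u ^ p) := by
            refine Subgroup.eq_of_le_of_card_ge
              (Subgroup.zpowers_le.mpr (Subgroup.npow_mem_zpowers _ j)) ?_
            rw [Nat.card_zpowers, Nat.card_zpowers, orderOf_eq_prime hup2 hup,
              orderOf_eq_prime (by rw [← pow_mul, mul_comm, pow_mul, hup2, one_pow]) hw1]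
          rw [e]; exact Subgroup.mem_zpowers _
        obtain ⟨q, hq⟩ := Subgroup.mem_zpowers_iff.mp hgen'
        have := (show Commute h ((u ^ p) ^ j) from hwc).zpow_right q
        rwa [hq] at this
      · have hgen' : u ∈ Subgroup.zpowers (u ^ i) := by
          have e : Subgroup.zpowers (u ^ i) = Subgroup.zpowers u := by
            refine Subgroup.eq_of_le_of_card_ge
              (Subgroup.zpowers_le.mpr (Subgroup.npow_mem_zpowers _ i)) ?_
            rw [Nat.card_zpowers, Nat.card_zpowers, Nat.Coprime.orderOf_pow]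
            rw [hord]
            exact Nat.Coprime.pow_left 2 (S.prime.coprime_iff_not_dvd.mpr hpi)
          rw [e]; exact Subgroup.mem_zpowers _
        obtain ⟨q, hq⟩ := Subgroup.mem_zpowers_iff.mp hgen'
        have := (show Commute h (u ^ i) from hwc).zpow_right q
        rw [hq] at this
        exact this.pow_right p
    obtain ⟨k, hk⟩ := hpw _ (hPn h ha u hu)
    have hkp : u ^ (k * p) = u ^ p := by
      rw [pow_mul, ← hk, conj_pow, hcp, mul_inv_cancel_right]
    have hmod : k ≡ 1 [MOD p] := by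
      have h1 := pow_eq_pow_iff_modEq.mp hkp
      rw [hord, pow_two] at h1
      have : k * p ≡ 1 * p [MOD p * p] := by rwa [one_mul]
      exact Nat.ModEq.mul_right_cancel' S.prime.ne_zero this
    have hk1 : 1 ≤ k := by
      by_contra hk0
      have : k = 0 := by omega
      subst this
      have := Nat.le_of_dvd one_pos ((Nat.modEq_iff_dvd' (by omega)).mp hmod)
      have := S.prime.two_le
      omega
    obtain ⟨j, hj⟩ := (Nat.modEq_iff_dvd' hk1).mp hmod.symm
    have hc : h * u = u * h := by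
      refine S.coprime_conj ha hb (c := (u ^ p) ^ j) ?_ ?_ ?_
      · exact (show Commute h (u ^ p) from hcp).pow_right j
      · rw [← pow_mul, mul_comm, pow_mul, hup2, one_pow]
      · rw [hk, ← pow_mul, ← pow_succ', show p * j + 1 = k by omega]
    apply hh
    refine S.eq_one_of_central ha hb fun v hv => ?_
    obtain ⟨i, rfl⟩ := hpw v hv
    exact (show Commute h u from hc).pow_right i

end DPrim23
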